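import Cfsg.Agent.Lib.RegUnip.SUOdd.Orbit
import Cfsg.Agent.Lib.RegUnip.Plane
import Cfsg.Agent.Lib.RegUnip.SpGen
import Cfsg.Agent.Lib.RegUnip.SU.Pair

/-!
`SU_{2m+1}(q)`, `q ≥ 3`: three conjugates of the regular unipotent generate.
-/

set_option autoImplicit false

namespace CfsgLib.RegUnip.SUOdd

open Matrix CfsgLib.SU CfsgLib.Perm.Trans CfsgLib.Perm.Dickson
open CfsgLib.Perm.Trans (gl_ext_vec)

/-- scaling the two root groups of `SL_2` in opposite directions -/
def diagScale {K : Type*} [Field K] (μ : K) (hμ : μ ≠ 0) : SL2F K →* SL2F K where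
  toFun A := ⟨!![A.1 0 0, μ * A.1 0 1; A.1 1 0 / μ, A.1 1 1], by
    rw [det_fin_two_of]
    have h := A.2
    rw [det_fin_two] at h
    field_simp
    linear_combination h⟩
  map_one' := by
    refine Subtype.ext ?_
    ext i j
    fin_cases i <;> fin_cases j <;> simp
  map_mul' A B := by
    refine Subtype.ext ?_
    show (!![(A.1 * B.1) 0 0, μ * (A.1 * B.1) 0 1; (A.1 * B.1) 1 0 / μ, (A.1 * B.1) 1 1] :
      Matrix (Fin 2) (Fin 2) K) = !![A.1 0 0, μ * A.1 0 1; A.1 1 0 / μ, A.1 1 1] *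
      !![B.1 0 0, μ * B.1 0 1; B.1 1 0 / μ, B.1 1 1]
    ext i j
    fin_cases i <;> fin_cases j <;> simp [Matrix.mul_apply, Fin.sum_univ_two] <;> field_simp

theorem diagScale_coe {K : Type*} [Field K] (μ : K) (hμ : μ ≠ 0) (A : SL2F K) :
    ((diagScale μ hμ A : SL2F K) : Matrix (Fin 2) (Fin 2) K) =
      !![A.1 0 0, μ * A.1 0 1; A.1 1 0 / μ, A.1 1 1] := rfl

theorem diagScale_trA {K : Type*} [Field K] (μ : K) (hμ : μ ≠ 0) (z : K) :
    diagScale μ hμ (trA z) = trA (μ * z) := by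
  refine Subtype.ext ?_
  ext i j
  rw [diagScale_coe]
  fin_cases i <;> fin_cases j <;> simp [trA]

theorem diagScale_loA {K : Type*} [Field K] (μ : K) (hμ : μ ≠ 0) (z : K) :
    diagScale μ hμ (loA z) = loA (z / μ) := by
  refine Subtype.ext ?_
  ext i j
  rw [diagScale_coe]
  fin_cases i <;> fin_cases j <;> simp [loA]

/-- three transvections with one prescribed parameter generate -/
theorem exists_gens {K : Type*} [Field K] [Fintype K] (hK : 4 ≤ Fintype.card K) (κ : K) (hκ : κ ≠ 0) :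
    ∃ ω : K, Subgroup.closure {trA ω, trA 1, loA κ} = (⊤ : Subgroup (SL2F K)) := by
  classical
  obtain ⟨ω, h0, h1, hgen, h9⟩ := exists_good_generator (F := K) hK
  suffices key : ∃ ω : K, Subgroup.closure {trA ω, trA κ, (trB : SL2F K)} = ⊤ by
    obtain ⟨ω, hω⟩ := key
    refine ⟨ω / κ, ?_⟩
    have hsurj : Function.Surjective (diagScale κ⁻¹ (inv_ne_zero hκ)) := fun A => by
      refine ⟨diagScale κ hκ A, Subtype.ext ?_⟩
      ext i j
      rw [diagScale_coe, diagScale_coe]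
      fin_cases i <;> fin_cases j <;> simp [hκ]
    have hmap := congrArg (Subgroup.map (diagScale κ⁻¹ (inv_ne_zero hκ))) hω
    rw [MonoidHom.map_closure, Subgroup.map_top_of_surjective _ hsurj, Set.image_insert_eq,
      Set.image_insert_eq, Set.image_singleton, diagScale_trA, diagScale_trA,
      show (trB : SL2F K) = loA 1 from rfl, diagScale_loA] at hmap
    rw [← hmap]
    congr 1
    rw [inv_mul_cancel₀ hκ, div_eq_inv_mul, one_div, inv_inv]
  by_cases h2 : (2 : K) = 0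
  · obtain ⟨p, hp⟩ := CharP.exists K
    obtain rfl : p = 2 := by
      have hpp := CharP.char_is_prime K p
      exact ((Nat.prime_dvd_prime_iff_eq hpp Nat.prime_two).1
        ((CharP.cast_eq_zero_iff K p 2).1 (by exact_mod_cast h2)))
    by_cases hωκ : ω = κ
    · refine ⟨ω + 1, closure_three_transv hκ (by rw [hωκ]; simp) (fun h => h1 ?_) ?_⟩
      · rw [← CharTwo.neg_eq (1 : K)]
        exact eq_neg_of_add_eq_zero_left h
      · refine eq_top_iff.2 (hgen ▸ Subfield.closure_le.2 (Set.singleton_subset_iff.2 ?_))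
        have h : ω + 1 ∈ Subfield.closure ({ω + 1} : Set K) := Subfield.subset_closure rfl
        simpa using sub_mem h (one_mem _)
    · exact ⟨ω, closure_three_transv hκ hωκ h0 hgen⟩
  · rcases Cfsg.Agent.S0801.result h2 ω h0 hgen with ⟨h, -⟩ | ⟨ha, hb, -⟩
    · refine ⟨ω, eq_top_iff.2 (h ▸ (Subgroup.closure_le _).2 ?_)⟩
      rintro g (hg | hg)
      · exact Subgroup.subset_closure
          (Set.mem_insert_of_mem _ (Set.mem_insert_of_mem _ (Subtype.ext hg : g = trB)))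
      · rw [show g = trA ω from Subtype.ext hg]
        exact Subgroup.subset_closure (Set.mem_insert _ _)
    · exact absurd ⟨ha, hb⟩ h9

variable {F : Type*} [Field F] [Fintype F] {q : ℕ} {C : UCtx F q} {m : ℕ} {a : F}
variable (D : OddData C m a) (hm : 2 ≤ m)
include hm

theorem OddData.three_large (hF : Fintype.card F = q ^ 2) (hq : 4 ≤ q) (ha : a ≠ 0)
    (hs : (2 * (m : F) + 1) * a + C.bar a ≠ 0) :
    ∃ g h : ↥(Cfsg.SU (2 * m + 1) F q), Subgroup.closure {D.u, g * D.u * g⁻¹, h * D.u * h⁻¹} = ⊤ := by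
  classical
  obtain ⟨δ, hδ0, hδ⟩ := C.exists_trace_zero
  have hδb : C.bar δ = -δ := by linear_combination hδ
  set K := CfsgLib.Descent.fixedField C.bar
  haveI : Fintype K := Fintype.ofFinite _
  have hKq : Fintype.card K = q := by
    have h1 := CfsgLib.Descent.card_fixedField_pow C.bar
    rw [C.order_two, hF, Nat.card_eq_fintype_card] at h1
    exact Nat.pow_left_injective two_ne_zero h1
  have hab : C.bar a ≠ 0 := by simpa using ha
  obtain ⟨N, hN⟩ : ∃ N, N = a * C.bar a := ⟨_, rfl⟩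
  have hN0 : N ≠ 0 := hN ▸ mul_ne_zero ha hab
  have hNb : C.bar N = N := hN ▸ C.norm_fixed a
  let κ : K := ⟨-(δ * δ * N), by
    show C.bar _ = _
    rw [map_neg, map_mul, map_mul, hNb, hδb]
    ring⟩
  obtain ⟨ω, hgens⟩ := exists_gens (K := K) (hKq ▸ hq) κ (fun h =>
    mul_ne_zero (mul_ne_zero hδ0 hδ0) hN0 (by simpa [κ] using congrArg Subtype.val h))
  have hk : ∀ k : K, C.bar (k : F) = k := fun k => k.2
  have htr : ∀ k : K, (k : F) * δ + C.bar ((k : F) * δ) = 0 := fun k => by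
    rw [map_mul, hk]; linear_combination (k : F) * hδ
  set u := D.u
  set t₁ := D.T hm 0 δ hδ
  set t₂ := D.T hm 0 ((ω : F) * δ) (htr ω)
  refine ⟨t₁, t₂, ?_⟩
  set G := Subgroup.closure ({u, t₁ * u * t₁⁻¹, t₂ * u * t₂⁻¹} : Set ↥(Cfsg.SU (2 * m + 1) F q))
  have huG : u ∈ G := Subgroup.subset_closure (Set.mem_insert _ _)
  have h1G : t₁ * u * t₁⁻¹ ∈ G := Subgroup.subset_closure (Set.mem_insert_of_mem _ (Set.mem_insert _ _))
  have h2G : t₂ * u * t₂⁻¹ ∈ G :=
    Subgroup.subset_closure (Set.mem_insert_of_mem _ (Set.mem_insert_of_mem _ rfl))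
  refine D.top_of_full hm hF (by omega) ha hs huG ?_
  -- the plane of `x_0` and `x_m`
  obtain ⟨e, he⟩ : ∃ e, e = D.xk 0 := ⟨_, rfl⟩
  obtain ⟨lam, hlam⟩ : ∃ lam, lam = (δ * C.bar a)⁻¹ := ⟨_, rfl⟩
  obtain ⟨hvec, hh⟩ : ∃ hvec, hvec = lam • D.xk (m : ℤ) := ⟨_, rfl⟩
  have hdot : ∀ (c : F) (y z : Fin (2 * m + 1) → F), (c • (C.bar ∘ z)) ⬝ᵥ y = c * C.form y z :=
    fun c y z => by
      rw [smul_dotProduct, dotProduct_comm, smul_eq_mul]; rfl
  have fee : C.form e e = 0 := by rw [he]; exact D.form_self hm 0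
  have fhh : C.form hvec hvec = 0 := by
    rw [hh, C.form_smul_left, C.form_smul_right, D.form_self hm, mul_zero, mul_zero]
  have fhe : C.form hvec e = lam * C.bar a := by
    rw [hh, C.form_smul_left, he, D.form_xk, zero_sub, D.cor_neg, D.cor_m]
  have hlamb : C.bar lam = -(δ * a)⁻¹ := by
    rw [hlam, map_inv₀, map_mul, C.bar_bar, hδb, neg_mul, inv_neg]
  have feh : C.form e hvec = C.bar lam * a := by
    rw [← C.bar_form, fhe, map_mul, C.bar_bar]
  have hRE : planeR ((-δ) • (C.bar ∘ hvec)) (δ • (C.bar ∘ e)) * planeE e hvec = 1 := by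
    refine planeR_mul_E ?_ ?_ ?_ ?_
    · rw [hdot, feh, hlamb]; field_simp
    · rw [hdot, fhh, mul_zero]
    · rw [hdot, fee, mul_zero]
    · rw [hdot, fhe, hlam]; field_simp
  set Φ := planeHom K.subtype hRE
  have hA : ∀ k : K, suGL _ F q (D.T hm 0 ((k : F) * δ) (htr k)) = Φ (trA k) := fun k => by
    refine gl_ext_vec fun y => ?_
    rw [planeHom_trA, hdot, suGL_val, D.T_mulVec, ← he, Subfield.coe_subtype, mul_assoc]
  have hlo : ∀ k : K, (k : F) / (δ * N) + C.bar ((k : F) / (δ * N)) = 0 := fun k => by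
    rw [map_div₀, map_mul, hk, hNb, hδb, neg_mul, div_neg, add_neg_cancel]
  have hB : ∀ k : K, suGL _ F q (D.T hm (m : ℤ) ((k : F) / (δ * N)) (hlo k)) = Φ (loA k) := fun k => by
    refine gl_ext_vec fun y => ?_
    rw [planeHom_loA, hdot, suGL_val, D.T_mulVec, Subfield.coe_subtype, hh, C.form_smul_right, hlamb, smul_smul,
      hlam, hN]
    congr 2
    field_simp
  let Tg := fun (i : ℤ) (s : F) (hs : s + C.bar s = 0) => suGL _ F q (D.T hm i s hs)
  have hneg : ∀ {s : F}, s + C.bar s = 0 → -s + C.bar (-s) = 0 := fun h => by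
    rw [map_neg]; linear_combination -h
  let Z : Set (GL (Fin (2 * m + 1)) F) :=
    {Tg 1 (-δ) (hneg hδ), Tg 1 (-((ω : F) * δ)) (hneg (htr ω)), Tg ((m : ℤ) - 1) δ hδ}
  have hZ : ∀ z ∈ Z, ∃ i : ℤ, (i = 1 ∨ i = (m : ℤ) - 1) ∧ ∃ s hs, z = Tg i s hs := by
    rintro z (rfl | rfl | rfl)
    · exact ⟨1, Or.inl rfl, _, _, rfl⟩
    · exact ⟨1, Or.inl rfl, _, _, rfl⟩
    · exact ⟨_, Or.inr rfl, _, _, rfl⟩
  have hcomm : ∀ i j : ℤ, (i = 1 ∨ i = (m : ℤ) - 1) → (j = 1 ∨ j = (m : ℤ) - 1 ∨ j = 0 ∨ j = m) →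
      ∀ s hs t ht, Commute (Tg i s hs) (Tg j t ht) := fun i j hi hj s hs t ht =>
    (D.T_commute hm (by omega) s t hs ht).map (suGL _ F q)
  have hω : Φ (trA ω) = Tg 0 ((ω : F) * δ) (htr ω) := (hA ω).symm
  have h1 : Φ (trA 1) = Tg 0 δ hδ := by
    rw [← hA]
    exact congrArg _ (D.T_congr hm rfl (by simp))
  have hκ : Φ (loA κ) = Tg (m : ℤ) (-δ) (hneg hδ) := by
    rw [← hB]
    refine congrArg _ (D.T_congr hm rfl ?_)
    show -(δ * δ * N) / (δ * N) = -δ
    field_simp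
  intro s hs'
  have hsk : C.bar (s / δ) = s / δ := by
    rw [map_div₀, hδb, show C.bar s = -s by linear_combination hs', neg_div_neg_eq]
  have hmem := plane_le (G := G.map (suGL _ F q)) K.subtype (hKq ▸ hq) hRE hgens Z
    (fun z hz w hw => by
      obtain ⟨i, hi, s, hs, rfl⟩ := hZ z hz
      obtain ⟨j, hj, t, ht, rfl⟩ := hZ w hw
      exact hcomm i j hi (by omega) _ _ _ _)
    (fun z hz B hB' => by
      obtain ⟨i, hi, s, hs, rfl⟩ := hZ z hz
      rcases hB' with rfl | rfl | rfl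
      · rw [hω]; exact hcomm i 0 hi (by omega) _ _ _ _
      · rw [h1]; exact hcomm i 0 hi (by omega) _ _ _ _
      · rw [hκ]; exact hcomm i m hi (by omega) _ _ _ _)
    (fun A hA' => by
      rcases hA' with rfl | rfl | rfl
      · refine ⟨_, Set.mem_insert_of_mem _ (Set.mem_insert _ _), ?_⟩
        rw [hω]
        exact ⟨_, D.T_pair_mem hm huG h2G 0, map_mul _ _ _⟩
      · refine ⟨_, Set.mem_insert _ _, ?_⟩
        rw [h1]
        exact ⟨_, D.T_pair_mem hm huG h1G 0, map_mul _ _ _⟩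
      · refine ⟨_, Set.mem_insert_of_mem _ (Set.mem_insert_of_mem _ rfl), ?_⟩
        rw [hκ, (hcomm ((m : ℤ) - 1) m (Or.inr rfl) (by omega) δ hδ (-δ) (hneg hδ)).eq.symm]
        refine ⟨_, D.T_pair_mem hm huG h1G ((m : ℤ) - 1), ?_⟩
        rw [map_mul]
        exact congrArg _ (congrArg _ (D.T_congr hm (sub_add_cancel _ _) rfl)))
    (trA ⟨s / δ, hsk⟩)
  rw [← hA] at hmem
  obtain ⟨B, hB', hBe⟩ := hmem
  rw [suGL_injective hBe] at hB'
  rwa [D.T_congr hm rfl (div_mul_cancel₀ s hδ0) (ht := hs')] at hB'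

theorem OddData.three_three (hF : Fintype.card F = q ^ 2) (hq : q = 3) (ha : a ≠ 0)
    (hs : (2 * (m : F) + 1) * a + C.bar a ≠ 0) :
    ∃ g h : ↥(Cfsg.SU (2 * m + 1) F q), Subgroup.closure {D.u, g * D.u * g⁻¹, h * D.u * h⁻¹} = ⊤ := by
  classical
  subst hq
  haveI : Fact (Nat.Prime 3) := ⟨Nat.prime_three⟩
  haveI : CharP F 3 := charP_of_card_eq_prime_pow hF
  obtain ⟨δ, hδ0, hδ⟩ := C.exists_trace_zero
  have hδb : C.bar δ = -δ := by linear_combination hδ
  set u := D.u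
  set t := D.T hm 0 δ hδ
  refine ⟨t, t⁻¹, ?_⟩
  set S : Set ↥(Cfsg.SU (2 * m + 1) F 3) := {u, t * u * t⁻¹, t⁻¹ * u * (t⁻¹)⁻¹}
  set G := Subgroup.closure S with hG
  have h3 : (3 : F) = 0 := by exact_mod_cast CharP.cast_eq_zero F 3
  have ht2 : t * t = t⁻¹ := by
    refine eq_inv_of_mul_eq_one_left (su_ext fun y => ?_)
    simp only [t, suMat_mulVec_mul, D.T_mulVec, C.form_add_left, C.form_smul_left, D.form_self hm,
      su_one_mulVec]
    match_scalars
    · ring
    · linear_combination (δ * C.form y (D.xk 0)) * h3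
  have hH : Subgroup.closure ({u, t} : Set ↥(Cfsg.SU (2 * m + 1) F 3)) = ⊤ := by
    refine D.top_of_full hm hF le_rfl ha hs (Subgroup.subset_closure (Set.mem_insert _ _)) fun s hs' => ?_
    have htm : t ∈ Subgroup.closure ({u, t} : Set ↥(Cfsg.SU (2 * m + 1) F 3)) :=
      Subgroup.subset_closure (Set.mem_insert_of_mem _ rfl)
    have hfix : (s / δ) ^ 3 = s / δ := by
      rw [← C.bar_eq, map_div₀, hδb, show C.bar s = -s by linear_combination hs', neg_div_neg_eq]
    obtain ⟨k, hk⟩ : ∃ k, k = s / δ := ⟨_, rfl⟩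
    rw [← hk] at hfix
    have hsk : s = k * δ := by rw [hk, div_mul_cancel₀ _ hδ0]
    rcases (show k = 0 ∨ k = 1 ∨ k = -1 by
      have h1 : k * ((k - 1) * (k + 1)) = 0 := by linear_combination hfix
      rcases mul_eq_zero.1 h1 with h | h
      · exact Or.inl h
      · rcases mul_eq_zero.1 h with h | h
        · exact Or.inr (Or.inl (sub_eq_zero.1 h))
        · exact Or.inr (Or.inr (eq_neg_of_add_eq_zero_left h))) with rfl | rfl | rfl
    · rw [D.T_congr hm rfl (hsk.trans (zero_mul δ)) (ht := by simp), D.T_zero]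
      exact one_mem _
    · rw [D.T_congr hm rfl (hsk.trans (one_mul δ)) (ht := hδ)]
      exact htm
    · rw [D.T_congr hm rfl (hsk.trans (neg_one_mul δ)) (ht := by rw [map_neg]; linear_combination -hδ),
        ← D.T_inv hm 0 δ hδ]
      exact inv_mem htm
  have huG : u ∈ G := Subgroup.subset_closure (Set.mem_insert _ _)
  have h1G : t * u * t⁻¹ ∈ G := Subgroup.subset_closure (Set.mem_insert_of_mem _ (Set.mem_insert _ _))
  have h2G : t⁻¹ * u * (t⁻¹)⁻¹ ∈ G :=
    Subgroup.subset_closure (Set.mem_insert_of_mem _ (Set.mem_insert_of_mem _ rfl))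
  have hc : ∀ x ∈ G, t * x * t⁻¹ ∈ G := by
    intro x hx
    induction hx using Subgroup.closure_induction with
    | mem x hx =>
      rcases hx with rfl | rfl | rfl
      · exact h1G
      · rw [show t * (t * u * t⁻¹) * t⁻¹ = (t * t) * u * (t * t)⁻¹ by group, ht2]; exact h2G
      · rw [show t * (t⁻¹ * u * (t⁻¹)⁻¹) * t⁻¹ = u by group]; exact huG
    | one => simp
    | mul x y _ _ hx hy =>
      rw [show t * (x * y) * t⁻¹ = (t * x * t⁻¹) * (t * y * t⁻¹) by group]; exact mul_mem hx hy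
    | inv x _ hx => rw [show t * x⁻¹ * t⁻¹ = (t * x * t⁻¹)⁻¹ by group]; exact inv_mem hx
  haveI : G.Normal := by
    rw [← Subgroup.normalizer_eq_top_iff, eq_top_iff, ← hH, Subgroup.closure_le]
    rintro g (rfl | rfl)
    · exact Subgroup.le_normalizer huG
    · refine Subgroup.mem_normalizer_iff.2 fun x => ⟨hc x, fun hx => ?_⟩
      have h2 := hc _ (hc _ hx)
      rwa [show t * (t * (t * x * t⁻¹) * t⁻¹) * t⁻¹ = (t * (t * t)) * x * (t * (t * t))⁻¹ by group, ht2,
        mul_inv_cancel, one_mul, inv_one, mul_one] at h2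
  exact top_of_normal hF (by omega) G huG (D.u_not_central hm ha hδ0 hδ)

end CfsgLib.RegUnip.SUOdd
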