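import Cfsg.Agent.Lib.RegUnip.SUOdd.Spread

/-!
Over the field of four elements four centres with the Gram matrix of four neighbouring orbit vectors, and the
sum of two of them, span a four dimensional subspace all of whose isotropic vectors are centres.
-/

set_option autoImplicit false

namespace CfsgLib.RegUnip.SUOdd

open Matrix Cfsg.Geo CfsgLib.Perm.Trans CfsgLib.Perm.Trans.Unit CfsgLib.Perm.Asch

variable {ι : Type} [Fintype ι] [DecidableEq ι] {F : Type*} [Field F] [Fintype F]
variable {σ : F ≃+* F} {f : (ι → F) → (ι → F) → F} (hf : IsUnitaryForm σ f)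
variable {M : Subgroup (GL ι F)} (hle : M ≤ isoU f)

include hf hle

/-- conjugation by the transvection at a centre, in characteristic two -/
theorem two_step (h2 : (2 : F) = 0) {x y : ι → F} (hx : x ∈ centres hf M) (hy : y ∈ centres hf M) :
    x + f x y • y ∈ centres hf M := by
  obtain ⟨h0, hmem⟩ := hy.2 1 (by rw [map_one]; linear_combination h2)
  have h1 := centres_conj hf hle hmem hx
  rwa [tv_mulVec, smul_dotProduct, hv_dot, smul_eq_mul, one_mul] at h1

theorem two_line (h2 : (2 : F) = 0) {x y : ι → F} (hx : x ∈ centres hf M) (hy : y ∈ centres hf M)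
    (hxy : f x y ≠ 0) (hsum : f (x + y) (x + y) = 0) : x + y ∈ centres hf M := by
  have h1 := centres_line hf hle hx hy hxy (r := 1) (by rwa [one_smul])
  rwa [one_smul] at h1

/-- all isotropic vectors of two orthogonal planes, from the mixed axes -/
theorem two_planes (h2 : (2 : F) = 0) {e h b k : ι → F}
    (fee : f e e = 0) (fhh : f h h = 0) (fbb : f b b = 0) (fkk : f k k = 0)
    (feb : f e b = 0) (fek : f e k = 0) (fhb : f h b = 0) (fhk : f h k = 0)
    (heh : f e h ≠ 0) (hbk : f b k ≠ 0)
    (m1 : ∀ s t : F, s • e + t • b ∈ centres hf M) (m2 : ∀ s t : F, s • e + t • k ∈ centres hf M)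
    (m3 : ∀ s t : F, s • h + t • b ∈ centres hf M) (m4 : ∀ s t : F, s • h + t • k ∈ centres hf M)
    (s t s' t' : F) (hv0 : f (s • e + t • h + s' • b + t' • k) (s • e + t • h + s' • b + t' • k) = 0) :
    s • e + t • h + s' • b + t' • k ∈ centres hf M := by
  have fhe : f h e = σ (f e h) := hf.herm h e
  have fkb : f k b = σ (f b k) := hf.herm k b
  have fbe := herm_swap_zero hf feb
  have fke := herm_swap_zero hf fek
  have fbh := herm_swap_zero hf fhb
  have fkh := herm_swap_zero hf fhk
  obtain ⟨X, hX⟩ : ∃ X, X = s * σ t * f e h := ⟨_, rfl⟩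
  obtain ⟨Y, hY⟩ : ∃ Y, Y = s' * σ t' * f b k := ⟨_, rfl⟩
  have hsum : X + σ X + (Y + σ Y) = 0 := by
    rw [← hv0, hX, hY]
    simp only [hf.add_left, herm_add_right hf, hf.smul_left, herm_smul_right hf, fee, fhh, fbb, fkk, feb, fek,
      fhb, fhk, fbe, fke, fbh, fkh, fhe, fkb, map_mul, hf.involutive]
    ring
  by_cases hXX : X + σ X = 0
  · have hYY : Y + σ Y = 0 := by linear_combination hsum - hXX
    -- one axis of the first plane with the whole second one
    have hone : ∀ c d : F, c • e + d • h + s' • b + t' • k ∈ centres hf M ∨ c ≠ 0 ∧ d ≠ 0 := by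
      intro c d
      by_cases hcd : c ≠ 0 ∧ d ≠ 0
      · exact Or.inr hcd
      refine Or.inl ?_
      by_cases hs' : s' = 0
      · rw [hs', zero_smul, add_zero]
        rcases eq_or_ne c 0 with rfl | hc
        · rw [zero_smul, zero_add]; exact m4 _ _
        · rw [show d = 0 from not_not.1 fun hd => hcd ⟨hc, hd⟩, zero_smul, add_zero]; exact m2 _ _
      by_cases ht' : t' = 0
      · rw [ht', zero_smul, add_zero]
        rcases eq_or_ne c 0 with rfl | hc
        · rw [zero_smul, zero_add]; exact m3 _ _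
        · rw [show d = 0 from not_not.1 fun hd => hcd ⟨hc, hd⟩, zero_smul, add_zero]; exact m1 _ _
      have hk : t' • k ∈ centres hf M := by simpa using m4 0 t'
      have hY0 : Y ≠ 0 := hY ▸ mul_ne_zero (mul_ne_zero hs' (by simpa using ht')) hbk
      rcases eq_or_ne c 0 with rfl | hc
      · rw [zero_smul, zero_add]
        refine two_line hf hle h2 (m3 d s') hk ?_ ?_
        · simp only [hf.add_left, hf.smul_left, herm_smul_right hf, fhk]
          rw [hY] at hY0
          convert hY0 using 1
          ring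
        · simp only [hf.add_left, herm_add_right hf, hf.smul_left, herm_smul_right hf, fhh, fbb, fkk, fhb, fhk,
            fbh, fkh, fkb]
          rw [hY, map_mul, map_mul, hf.involutive] at hYY
          linear_combination hYY
      · rw [show d = 0 from not_not.1 fun hd => hcd ⟨hc, hd⟩, zero_smul, add_zero]
        refine two_line hf hle h2 (m1 c s') hk ?_ ?_
        · simp only [hf.add_left, hf.smul_left, herm_smul_right hf, fek]
          rw [hY] at hY0
          convert hY0 using 1
          ring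
        · simp only [hf.add_left, herm_add_right hf, hf.smul_left, herm_smul_right hf, fee, fbb, fkk, feb, fek,
            fbe, fke, fkb]
          rw [hY, map_mul, map_mul, hf.involutive] at hYY
          linear_combination hYY
    rcases hone s t with h1 | ⟨hs, ht⟩
    · exact h1
    have hh' : t • h + s' • b + t' • k ∈ centres hf M := by
      rcases hone 0 t with h1 | ⟨h1, -⟩
      · rwa [zero_smul, zero_add] at h1
      · exact absurd rfl h1
    have he : s • e ∈ centres hf M := by simpa using m1 s 0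
    rw [show s • e + t • h + s' • b + t' • k = s • e + (t • h + s' • b + t' • k) by abel]
    refine two_line hf hle h2 he hh' ?_ ?_
    · rw [hf.smul_left, herm_add_right hf, herm_add_right hf, herm_smul_right hf, herm_smul_right hf,
        herm_smul_right hf, feb, fek]
      simp [hs, ht, heh]
    · rw [← hv0]
      congr 1 <;> abel
  -- both components anisotropic
  by_cases hA : X + Y = 0
  · have hB : X + σ Y ≠ 0 := fun hB => hXX (by
      have e1 : Y = σ Y := by linear_combination hA - hB
      have e2 : X + σ X = -(Y + σ Y) := by linear_combination hsum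
      rw [e2, ← e1]; linear_combination (-Y) * h2)
    rw [show s • e + t • h + s' • b + t' • k = (s • e + t' • k) + (t • h + s' • b) by abel]
    refine two_line hf hle h2 (m2 s t') (m3 t s') ?_ ?_
    · convert hB using 1
      simp only [hf.add_left, herm_add_right hf, hf.smul_left, herm_smul_right hf, feb, fkh, fkb, hX, hY, map_mul,
        hf.involutive]
      ring
    · rw [← hv0]
      congr 1 <;> abel
  · rw [show s • e + t • h + s' • b + t' • k = (s • e + s' • b) + (t • h + t' • k) by abel]
    refine two_line hf hle h2 (m1 s s') (m4 t t') ?_ ?_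
    · convert hA using 1
      simp only [hf.add_left, herm_add_right hf, hf.smul_left, herm_smul_right hf, fek, fbh, hX, hY]
      ring
    · rw [← hv0]
      congr 1 <;> abel

/-- the seed of dimension four -/
theorem two_seed (h2 : (2 : F) = 0) {a : F} (ha2 : a * a = a + 1) (hab : σ a = a + 1)
    (h4 : ∀ s : F, s = 0 ∨ s = 1 ∨ s = a ∨ s = a + 1)
    {e₁ e₂ h₁ h₂ : ι → F} (ce₁ : e₁ ∈ centres hf M) (ce₂ : e₂ ∈ centres hf M) (ch₁ : h₁ ∈ centres hf M)
    (ch₂ : h₂ ∈ centres hf M) (cr : e₁ + e₂ ∈ centres hf M)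
    (g11 : f e₁ h₁ = a) (g12 : f e₁ h₂ = 1) (g21 : f e₂ h₁ = 0) (g22 : f e₂ h₂ = a)
    (gee : f e₁ e₂ = 0) (ghh : f h₁ h₂ = 0) :
    ∃ W : Submodule F (ι → F), IsNondegenerateOn f W ∧ 4 ≤ Module.finrank F W ∧
      ∀ u ∈ W, f u u = 0 → u ∈ centres hf M := by
  have k11 : f h₁ e₁ = a + 1 := by rw [hf.herm, g11, hab]
  have k21 : f h₂ e₁ = 1 := by rw [hf.herm, g12, map_one]
  have k12 : f h₁ e₂ = 0 := herm_swap_zero hf g21
  have k22 : f h₂ e₂ = a + 1 := by rw [hf.herm, g22, hab]
  have kee : f e₂ e₁ = 0 := herm_swap_zero hf gee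
  have khh : f h₂ h₁ = 0 := herm_swap_zero hf ghh
  have s1 := ce₁.1
  have s2 := ce₂.1
  have s3 := ch₁.1
  have s4 := ch₂.1
  have step : ∀ {x y : ι → F} (c : F), x ∈ centres hf M → y ∈ centres hf M → f x y = c →
      x + c • y ∈ centres hf M := fun c hx hy hc => hc ▸ two_step hf hle h2 hx hy
  have hσ1 : σ (a + 1) = a := by rw [map_add, hab, map_one]; grind
  -- the certificate
  have n1 : e₁ + a • h₁ ∈ centres hf M := step a ce₁ ch₁ g11
  have n2 : h₂ + a • (e₁ + e₂) ∈ centres hf M := step a ch₂ cr (by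
    simp only [herm_add_right hf, k21, k22]; grind)
  have n3 : e₂ + a • (h₂ + a • (e₁ + e₂)) ∈ centres hf M := step a ce₂ n2 (by
    simp only [herm_add_right hf, herm_smul_right hf, g22, kee, s2]; ring)
  have n4 : e₁ + (1 : F) • h₂ ∈ centres hf M := step 1 ce₁ ch₂ g12
  have n5 : h₁ + (a + 1) • (e₁ + e₂) ∈ centres hf M := step (a + 1) ch₁ cr (by
    simp only [herm_add_right hf, k11, k12]; ring)
  have n6 : e₁ + (1 : F) • h₂ + (1 : F) • (h₁ + (a + 1) • (e₁ + e₂)) ∈ centres hf M := step 1 n4 n5 (by
    simp only [herm_add_right hf, herm_smul_right hf, hf.add_left, hf.smul_left, g11, s1, gee, khh, k21, k22,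
      hσ1]
    grind)
  have n7 : e₂ + a • (h₂ + a • (e₁ + e₂)) + a • (e₁ + (1 : F) • h₂ + (1 : F) • (h₁ + (a + 1) • (e₁ + e₂))) ∈
      centres hf M := step a n3 n6 (by
    simp only [herm_add_right hf, herm_smul_right hf, hf.add_left, hf.smul_left, g11, g12, g21, g22, k11, k12,
      k21, k22, gee, kee, khh, s1, s2, s3, s4, hσ1, map_one]
    grind)
  have cb : e₁ + (a + 1) • e₂ ∈ centres hf M := by
    have h := step 1 n1 n7 (by
      simp only [herm_add_right hf, herm_smul_right hf, hf.add_left, hf.smul_left, g11, g12, g21, g22, k11, k12,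
        k21, k22, gee, kee, ghh, khh, s1, s2, s3, s4, hab, hσ1, map_one]
      grind)
    convert h using 1
    match_scalars <;> grind
  have cc : (a + 1) • e₁ + e₂ ∈ centres hf M := by
    have h := step (a + 1) n4 n3 (by
      simp only [herm_add_right hf, herm_smul_right hf, hf.add_left, hf.smul_left, g12, g22, k21, k22, gee,
        s1, s4, hab, map_one]
      grind)
    convert h using 1
    match_scalars <;> grind
  obtain ⟨b, hb⟩ : ∃ b, b = e₁ + (a + 1) • e₂ := ⟨_, rfl⟩
  rw [← hb] at cb
  have fbb := cb.1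
  have feb : f e₂ b = 0 := by rw [hb]; simp [herm_add_right hf, herm_smul_right hf, kee, s2]
  have fhb : f h₂ b = 0 := by
    rw [hb]
    simp only [herm_add_right hf, herm_smul_right hf, k21, k22, hσ1]
    grind
  have fbk : f b h₁ = a := by rw [hb]; simp [hf.add_left, hf.smul_left, g11, g21]
  have ha0 : a ≠ 0 := fun h => by rw [h] at ha2; simp at ha2
  -- the first axes
  have m1 : ∀ s t : F, s • e₂ + t • b ∈ centres hf M := by
    intro s t
    rcases eq_or_ne t 0 with rfl | ht
    · rw [zero_smul, add_zero]; exact centres_smul hf ce₂ s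
    rcases eq_or_ne s 0 with rfl | hs
    · rw [zero_smul, zero_add]; exact centres_smul hf cb t
    rw [show s • e₂ + t • b = s • (e₂ + (t / s) • b) by
      rw [smul_add, smul_smul, mul_div_cancel₀ _ hs]]
    refine centres_smul hf ?_ s
    rcases h4 (t / s) with h | h | h | h
    · exact absurd h (div_ne_zero ht hs)
    · convert centres_smul hf cc a using 1
      rw [h, hb]
      match_scalars <;> grind
    · convert centres_smul hf ce₁ a using 1
      rw [h, hb]
      match_scalars <;> grind
    · convert centres_smul hf cr (a + 1) using 1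
      rw [h, hb]
      match_scalars <;> grind
  -- moving the axes inside the two planes
  have hz : e₂ + a • h₂ ∈ centres hf M := step a ce₂ ch₂ g22
  have hw : b + a • h₁ ∈ centres hf M := step a cb ch₁ fbk
  obtain ⟨_, hgz⟩ := hz.2 1 (by rw [map_one]; grind)
  obtain ⟨_, hgw⟩ := hw.2 1 (by rw [map_one]; grind)
  have move1 : ∀ {v : ι → F}, f v h₂ = 0 → f v e₂ = 0 → ∀ s, s • e₂ + v ∈ centres hf M →
      (s * a) • h₂ + v ∈ centres hf M := by
    intro v hv1 hv2 s hs
    have h := centres_conj hf hle hgz hs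
    rw [tv_mulVec, smul_dotProduct, hv_dot, smul_eq_mul, one_mul] at h
    convert h using 1
    simp only [hf.add_left, hf.smul_left, herm_add_right hf, herm_smul_right hf, g22, s2, hv1, hv2, hab]
    match_scalars <;> grind
  have move2 : ∀ {v : ι → F}, f v b = 0 → f v h₁ = 0 → ∀ s, v + s • b ∈ centres hf M →
      v + (s * a) • h₁ ∈ centres hf M := by
    intro v hv1 hv2 s hs
    have h := centres_conj hf hle hgw hs
    rw [tv_mulVec, smul_dotProduct, hv_dot, smul_eq_mul, one_mul] at h
    convert h using 1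
    simp only [hf.add_left, hf.smul_left, herm_add_right hf, herm_smul_right hf, fbk, fbb, hv1, hv2, hab]
    match_scalars <;> grind
  have fek : f e₂ h₁ = 0 := g21
  have fhk : f h₂ h₁ = 0 := khh
  have m2 : ∀ s t : F, s • e₂ + t • h₁ ∈ centres hf M := fun s t => by
    have h := move2 (v := s • e₂) (by rw [hf.smul_left, feb, mul_zero]) (by rw [hf.smul_left, fek, mul_zero])
      (t / a) (m1 s (t / a))
    rwa [div_mul_cancel₀ _ ha0] at h
  have m3 : ∀ s t : F, s • h₂ + t • b ∈ centres hf M := fun s t => by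
    have h := move1 (v := t • b) (by rw [hf.smul_left, herm_swap_zero hf fhb, mul_zero])
      (by rw [hf.smul_left, herm_swap_zero hf feb, mul_zero]) (s / a) (m1 (s / a) t)
    rwa [div_mul_cancel₀ _ ha0] at h
  have m4 : ∀ s t : F, s • h₂ + t • h₁ ∈ centres hf M := fun s t => by
    have h := move1 (v := t • h₁) (by rw [hf.smul_left, ghh, mul_zero]) (by rw [hf.smul_left, k12, mul_zero])
      (s / a) (m2 (s / a) t)
    rwa [div_mul_cancel₀ _ ha0] at h
  obtain ⟨hP, hP2⟩ := u_plane_nondeg hf ce₂ ch₂ (by rw [g22]; exact ha0)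
  obtain ⟨hQ, hQ2⟩ := u_plane_nondeg hf cb ch₁ (by rw [fbk]; exact ha0)
  have horth : ∀ q ∈ Submodule.span F ({b, h₁} : Set (ι → F)),
      q ∈ perp hf (Submodule.span F ({e₂, h₂} : Set (ι → F))) := by
    intro q hq p hp
    obtain ⟨c, d, rfl⟩ := Submodule.mem_span_pair.1 hp
    obtain ⟨c', d', rfl⟩ := Submodule.mem_span_pair.1 hq
    simp only [hf.add_left, hf.smul_left, herm_add_right hf, herm_smul_right hf, herm_swap_zero hf feb,
      herm_swap_zero hf fhb, k12, ghh]
    ring
  have hsup : IsNondegenerateOn f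
      (Submodule.span F ({e₂, h₂} : Set (ι → F)) ⊔ Submodule.span F ({b, h₁} : Set (ι → F))) := by
    intro v hv' hv0
    obtain ⟨p, hp, q, hq, rfl⟩ := Submodule.mem_sup.1 hv'
    have hpq : ∀ x ∈ Submodule.span F ({e₂, h₂} : Set (ι → F)), f q x = 0 ∧ f x q = 0 := fun x hx =>
      ⟨horth q hq x hx, herm_swap_zero hf (horth q hq x hx)⟩
    rcases eq_or_ne p 0 with rfl | hp0
    · rw [zero_add] at hv0 ⊢
      obtain ⟨⟨x, hx, h1⟩, ⟨y, hy, h1'⟩⟩ := hQ q hq hv0
      exact ⟨⟨x, Submodule.mem_sup_right hx, h1⟩, ⟨y, Submodule.mem_sup_right hy, h1'⟩⟩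
    · obtain ⟨⟨x, hx, h1⟩, ⟨y, hy, h1'⟩⟩ := hP p hp hp0
      exact ⟨⟨x, Submodule.mem_sup_left hx, by rwa [herm_add_right hf, (hpq x hx).2, add_zero]⟩,
        ⟨y, Submodule.mem_sup_left hy, by rwa [hf.add_left, (hpq y hy).1, add_zero]⟩⟩
  refine ⟨_, hsup, ?_, ?_⟩
  · have hdis : Submodule.span F ({e₂, h₂} : Set (ι → F)) ⊓ Submodule.span F {b, h₁} = ⊥ :=
      eq_bot_iff.2 fun x hx => (Submodule.mem_bot F).2 (disjoint_perp hf hP hx.1 (horth x hx.2))
    have := Submodule.finrank_sup_add_finrank_inf_eq (Submodule.span F ({e₂, h₂} : Set (ι → F)))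
      (Submodule.span F ({b, h₁} : Set (ι → F)))
    rw [hdis, finrank_bot, hP2, hQ2] at this
    omega
  intro u hu huu
  obtain ⟨p, hp, q, hq, rfl⟩ := Submodule.mem_sup.1 hu
  obtain ⟨c, d, rfl⟩ := Submodule.mem_span_pair.1 hp
  obtain ⟨c', d', rfl⟩ := Submodule.mem_span_pair.1 hq
  rw [← add_assoc] at huu ⊢
  exact two_planes hf hle h2 s2 s4 fbb s3 feb fek fhb fhk (by rw [g22]; exact ha0) (by rw [fbk]; exact ha0)
    m1 m2 m3 m4 c d c' d' huu

end CfsgLib.RegUnip.SUOdd
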