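import Cfsg.Agent.Lib.RegUnip.SUOdd.Orbit
import Cfsg.Agent.Lib.RegUnip.SUOdd.Seed

/-!
`SU_{2m+1}(2)`: three conjugates of the regular unipotent generate.
-/

set_option autoImplicit false

namespace CfsgLib.RegUnip.SUOdd

open Matrix CfsgLib.SU CfsgLib.Perm.Trans CfsgLib.Perm.Trans.Unit CfsgLib.Perm.Asch

variable {F : Type*} [Field F] [Fintype F] {C : UCtx F 2} {m : ℕ} {a : F}
variable (D : OddData C m a) (hm : 2 ≤ m)
include hm

theorem OddData.three_two (hF : Fintype.card F = 2 ^ 2) (hab : C.bar a ≠ a) :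
    ∃ g h : ↥(Cfsg.SU (2 * m + 1) F 2), Subgroup.closure {D.u, g * D.u * g⁻¹, h * D.u * h⁻¹} = ⊤ := by
  classical
  haveI : Fact (Nat.Prime 2) := ⟨Nat.prime_two⟩
  haveI : CharP F 2 := charP_of_card_eq_prime_pow hF
  have h2 : (2 : F) = 0 := CharTwo.two_eq_zero
  have ha : a ≠ 0 := fun h => hab (by rw [h, map_zero])
  have hpow : ∀ s : F, s ^ 4 = s := fun s => by
    have := FiniteField.pow_card s; rwa [hF] at this
  have hsq : ∀ s : F, C.bar s = s * s := fun s => by rw [C.bar_eq, sq]
  have ha2 : a * a = a + 1 := by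
    have h1 : (a * a - a) * (a * a + a + 1) = 0 := by linear_combination hpow a
    have := (mul_eq_zero.1 h1).resolve_left (sub_ne_zero.2 (hsq a ▸ hab))
    linear_combination this - (a + 1) * h2
  have hab1 : C.bar a = a + 1 := (hsq a).trans ha2
  have h4 : ∀ s : F, s = 0 ∨ s = 1 ∨ s = a ∨ s = a + 1 := fun s => by
    have h1 : s * ((s - 1) * ((s - a) * (s - (a + 1)))) = 0 := by
      linear_combination hpow s + (s ^ 2 - s) * ha2 +
        (-(a + 1) * s ^ 3 + (2 * a + 1) * s ^ 2 - a * s) * h2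
    rcases mul_eq_zero.1 h1 with h | h
    · exact Or.inl h
    rcases mul_eq_zero.1 h with h | h
    · exact Or.inr (Or.inl (sub_eq_zero.1 h))
    rcases mul_eq_zero.1 h with h | h
    · exact Or.inr (Or.inr (Or.inl (sub_eq_zero.1 h)))
    · exact Or.inr (Or.inr (Or.inr (sub_eq_zero.1 h)))
  have h01 : ∀ s : F, s + C.bar s = 0 → s = 0 ∨ s = 1 := fun s hs => by
    rw [hsq] at hs
    have : s * (s + 1) = 0 := by linear_combination hs
    rcases mul_eq_zero.1 this with h | h
    · exact Or.inl h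
    · exact Or.inr (by linear_combination h - h2)
  have hone : (1 : F) + C.bar 1 = 0 := by rw [map_one]; linear_combination h2
  have hcs : D.cor ((m : ℤ) + 1) = 1 := by
    rw [D.cor_succ, hab1]; linear_combination ((m : F) * a + a) * h2
  have hc1 : D.cor 1 = 0 := D.cor_small (show (1 : ℤ).natAbs < m by simp; omega)
  have hcm1 : D.cor (-1) = 0 := by rw [D.cor_neg, hc1, map_zero]
  set u := D.u
  set t := D.T hm 0 1 hone
  obtain ⟨r, hr⟩ : ∃ r, r = D.xk (-1) + D.xk 0 := ⟨_, rfl⟩
  have hrr : C.form r r = 0 := by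
    rw [hr, C.form_add_left, C.form_add_right, C.form_add_right, D.form_self hm, D.form_self hm,
      D.form_xk, D.form_xk, show (0 : ℤ) - -1 = 1 from rfl, sub_zero, hc1, hcm1]
    simp
  set h := C.tv r hrr 1 hone
  have hr0 : C.form r (D.xk 0) = 0 := by
    rw [hr, C.form_add_left, D.form_self hm, D.form_xk, show (0 : ℤ) - -1 = 1 from rfl, hc1, add_zero]
  have hr1 : C.form r (D.xk (-1)) = 0 := by
    rw [hr, C.form_add_left, D.form_self hm, D.form_xk, show (-1 : ℤ) - 0 = -1 from rfl, hcm1, add_zero]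
  have hht : Commute h t := C.tv_commute _ _ hr0 1 1 hone hone
  have htt : t * t = 1 := su_ext fun y => by
    simp only [t, suMat_mulVec_mul, D.T_mulVec, C.form_add_left, C.form_smul_left, D.form_self hm, su_one_mulVec]
    match_scalars
    · ring
    · linear_combination (C.form y (D.xk 0)) * h2
  have hhh : h * h = 1 := su_ext fun y => by
    simp only [h, suMat_mulVec_mul, C.tv_mulVec, C.form_add_left, C.form_smul_left, hrr, su_one_mulVec]
    match_scalars
    · ring
    · linear_combination (C.form y r) * h2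
  have hti : t⁻¹ = t := inv_eq_of_mul_eq_one_right htt
  have hhi : h⁻¹ = h := inv_eq_of_mul_eq_one_right hhh
  refine ⟨t, h, ?_⟩
  set S : Set ↥(Cfsg.SU (2 * m + 1) F 2) := {u, t * u * t⁻¹, h * u * h⁻¹}
  set G := Subgroup.closure S with hG
  have huG : u ∈ G := Subgroup.subset_closure (Set.mem_insert _ _)
  have htG : t * u * t⁻¹ ∈ G := Subgroup.subset_closure (Set.mem_insert_of_mem _ (Set.mem_insert _ _))
  have hhG : h * u * h⁻¹ ∈ G :=
    Subgroup.subset_closure (Set.mem_insert_of_mem _ (Set.mem_insert_of_mem _ rfl))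
  -- the fourth conjugate
  have h4G : (h * t) * u * (h * t)⁻¹ ∈ G := by
    set t' := u⁻¹ * t * u with ht'
    set h' := u⁻¹ * h * u with hh'
    have e1 : t' = D.T hm (-1) 1 hone := by
      rw [ht', D.T_congr hm (show (-1 : ℤ) = -1 + 0 from rfl) rfl (ht := hone), ← D.T_shift, _root_.zpow_neg_one,
        inv_inv]
    have c1 : Commute h t' := by rw [e1]; exact C.tv_commute _ _ hr1 1 1 hone hone
    have m1 : h' * h ∈ G := by
      have hm' := G.mul_mem (G.inv_mem huG) hhG
      rwa [hhi, ← mul_assoc, ← mul_assoc] at hm'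
    have m2 : t' * t ∈ G := by
      have hm' := G.mul_mem (G.inv_mem huG) htG
      rwa [hti, ← mul_assoc, ← mul_assoc] at hm'
    have hm' := G.mul_mem huG (G.mul_mem m1 m2)
    have he : u * (h' * h * (t' * t)) = h * t * u * (h * t)⁻¹ := by
      rw [_root_.mul_inv_rev, hti, hhi, show h' * h * (t' * t) = h' * (h * t') * t by group, c1.eq,
        ← hht.eq, ht', hh']
      group
    rwa [he] at hm'
  have htS : ∀ x ∈ S, t * x * t⁻¹ ∈ G := by
    rintro x (rfl | rfl | rfl)
    · exact htG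
    · rw [show t * (t * u * t⁻¹) * t⁻¹ = (t * t) * u * (t * t)⁻¹ by group, htt, one_mul, inv_one, mul_one]
      exact huG
    · rw [show t * (h * u * h⁻¹) * t⁻¹ = (t * h) * u * (t * h)⁻¹ by group, ← hht.eq]; exact h4G
  have hhS : ∀ x ∈ S, h * x * h⁻¹ ∈ G := by
    rintro x (rfl | rfl | rfl)
    · exact hhG
    · rw [show h * (t * u * t⁻¹) * h⁻¹ = (h * t) * u * (h * t)⁻¹ by group]; exact h4G
    · rw [show h * (h * u * h⁻¹) * h⁻¹ = (h * h) * u * (h * h)⁻¹ by group, hhh, one_mul, inv_one, mul_one]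
      exact huG
  -- the group generated by `u`, `t`, `h`
  have hH : Subgroup.closure ({u, t, h} : Set ↥(Cfsg.SU (2 * m + 1) F 2)) = ⊤ := by
    set H := Subgroup.closure ({u, t, h} : Set ↥(Cfsg.SU (2 * m + 1) F 2))
    have huH : u ∈ H := Subgroup.subset_closure (Set.mem_insert _ _)
    set hf := isUnitary_hermForm C (n := 2 * m + 1)
    have hle := suGL_map_le C H
    have hT : ∀ s hs, D.T hm 0 s hs ∈ H := fun s hs => by
      rcases h01 s hs with rfl | rfl
      · rw [D.T_zero]; exact one_mem _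
      · exact Subgroup.subset_closure (Set.mem_insert_of_mem _ (Set.mem_insert _ _))
    have hx : ∀ k, D.xk k ∈ centres hf (H.map (suGL (2 * m + 1) F 2)) := D.centres_xk hm huH hT
    have hrC : D.xk (-1) + D.xk 0 ∈ centres hf (H.map (suGL (2 * m + 1) F 2)) := hr ▸
      mem_centres_of_tv hrr fun s hs => by
        rcases h01 s hs with rfl | rfl
        · rw [show C.tv r hrr 0 hs = 1 from su_ext fun y => by simp [C.tv_mulVec, su_one_mulVec]]
          exact one_mem _
        · exact Subgroup.subset_closure (Set.mem_insert_of_mem _ (Set.mem_insert_of_mem _ rfl))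
    obtain ⟨W, hW, hW4, hWC⟩ := two_seed hf hle h2 ha2 hab1 h4 (hx (-1)) (hx 0) (hx ((m : ℤ) - 1))
      (hx (m : ℤ)) hrC
      (by rw [hermForm_eq_form C, D.form_xk, show (m : ℤ) - 1 - -1 = m by ring, D.cor_m])
      (by rw [hermForm_eq_form C, D.form_xk, sub_neg_eq_add, hcs])
      (by rw [hermForm_eq_form C, D.form_xk]; exact D.cor_small (by omega))
      (by rw [hermForm_eq_form C, D.form_xk, sub_zero, D.cor_m])
      (by rw [hermForm_eq_form C, D.form_xk]; exact hc1)
      (by rw [hermForm_eq_form C, D.form_xk, sub_sub_cancel]; exact hc1)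
    refine top_of_centres (by omega) fun v hv => u_centres_all hf hle
      (fun i : Fin (2 * m + 1) => D.xk ((i : ℕ) : ℤ)) (fun i => hx _) D.span_xk
      (D.conn ha (by rw [← D.cor_succ, hcs]; exact one_ne_zero)) hW hWC (by omega) (Or.inl hW4) v hv
  have conj_mem : ∀ g : ↥(Cfsg.SU (2 * m + 1) F 2), (∀ x ∈ S, g * x * g⁻¹ ∈ G) → ∀ x ∈ G, g * x * g⁻¹ ∈ G := by
    intro g hg x hx
    induction hx using Subgroup.closure_induction with
    | mem x hx => exact hg x hx
    | one => simp
    | mul x y _ _ hx hy =>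
      rw [show g * (x * y) * g⁻¹ = (g * x * g⁻¹) * (g * y * g⁻¹) by group]; exact mul_mem hx hy
    | inv x _ hx => rw [show g * x⁻¹ * g⁻¹ = (g * x * g⁻¹)⁻¹ by group]; exact inv_mem hx
  haveI : G.Normal := by
    have hinvol : ∀ g : ↥(Cfsg.SU (2 * m + 1) F 2), g * g = 1 → (∀ x ∈ S, g * x * g⁻¹ ∈ G) →
        g ∈ Subgroup.normalizer (G : Set ↥(Cfsg.SU (2 * m + 1) F 2)) := fun g hgg hg =>
      Subgroup.mem_normalizer_iff.2 fun x => ⟨conj_mem g hg x, fun hx => by
        have h5 := conj_mem g hg _ hx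
        rwa [show g * (g * x * g⁻¹) * g⁻¹ = (g * g) * x * (g * g)⁻¹ by group, hgg, one_mul, inv_one,
          mul_one] at h5⟩
    rw [← Subgroup.normalizer_eq_top_iff, eq_top_iff, ← hH, Subgroup.closure_le]
    rintro g (rfl | rfl | rfl)
    · exact Subgroup.le_normalizer huG
    · exact hinvol _ htt htS
    · exact hinvol _ hhh hhS
  exact top_of_normal hF (by omega) G huG (D.u_not_central hm ha one_ne_zero hone)

end CfsgLib.RegUnip.SUOdd
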