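import Cfsg.Agent.Lib.RegUnip.SUOdd.Large
import Cfsg.Agent.Lib.RegUnip.SUOdd.Two
import Cfsg.Agent.Lib.RegUnip.SU.Main

/-!
`SU_n(q)`, `n` odd, is generated by three conjugate regular unipotent elements.
-/

set_option autoImplicit false

namespace CfsgLib.RegUnip.SUOdd

open Matrix CfsgLib.SU

theorem su_odd_three {F : Type*} [Field F] [Fintype F] (q : ℕ) (hF : Fintype.card F = q ^ 2) (n : ℕ)
    (hn : 3 ≤ n) (hodd : Odd n) (h32 : ¬ (n = 3 ∧ q = 2)) :
    ∃ u g h : ↥(Cfsg.SU n F q), (IsNilpotent (u.1.1 - 1) ∧ (u.1.1 - 1) ^ (n - 1) ≠ 0) ∧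
      Subgroup.closure ({u, g * u * g⁻¹, h * u * h⁻¹} : Set ↥(Cfsg.SU n F q)) = ⊤ := by
  classical
  have hq2 : 2 ≤ q := by
    by_contra hlt
    have h1 := Fintype.one_lt_card (α := F)
    rw [hF] at h1
    interval_cases q <;> simp at h1
  obtain ⟨m, rfl⟩ := hodd
  rcases Nat.lt_or_ge m 2 with hm | hm
  · obtain rfl : m = 1 := by omega
    obtain ⟨u, g, hu, hg⟩ := CfsgLib.RegUnip.SU.su_three (by omega : 3 ≤ q) hF
    exact ⟨u, g, g, hu, by rw [Set.pair_eq_singleton]; exact hg⟩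
  obtain ⟨C⟩ := CfsgLib.Perm.Trans.Unit.ctx_of_card hF
  obtain ⟨a, hab, htr⟩ := C.exists_trace_ne_zero
  have ha : a ≠ 0 := fun h => hab (by rw [h, map_zero])
  have hs : (2 * (m : F) + 1) * a + C.bar a ≠ 0 := by
    intro h0
    have h1 := congrArg C.bar h0
    simp only [map_add, map_mul, map_one, map_zero, map_ofNat, map_natCast, C.bar_bar] at h1
    have h2 : ((2 * (m : F) + 1) - 1) * ((2 * (m : F) + 1) + 1) * a = 0 := by
      linear_combination (2 * (m : F) + 1) * h0 - h1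
    rcases mul_eq_zero.1 ((mul_eq_zero.1 h2).resolve_right ha) with h | h
    · exact htr (by linear_combination h0 - a * h)
    · exact hab (by linear_combination h0 - a * h)
  obtain ⟨D⟩ := exists_oddData C m hm a htr
  rcases Nat.lt_or_ge q 4 with hq | hq
  · interval_cases q
    · obtain ⟨g, h, hgh⟩ := D.three_two hm hF hab
      exact ⟨_, g, h, D.regular, hgh⟩
    · obtain ⟨g, h, hgh⟩ := D.three_three hm hF rfl ha hs
      exact ⟨_, g, h, D.regular, hgh⟩
  · obtain ⟨g, h, hgh⟩ := D.three_large hm hF hq ha hs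
    exact ⟨_, g, h, D.regular, hgh⟩

end CfsgLib.RegUnip.SUOdd
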