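import Cfsg.Agent.Lib.SU.Basic
import Cfsg.Agent.Lib.Classical.HermFrames

/-!
A regular unipotent element of `SU_{2m+1}` with a cyclic isotropic vector whose correlation sequence
`k ↦ h(x, u^k x)` vanishes for `|k| < m`: on the basis `(u - 1)^i x` the form is given by binomial coefficients.
-/

set_option autoImplicit false

namespace CfsgLib.RegUnip.SUOdd

open Matrix CfsgLib.SU

/-- the binomial coefficient, zero below -/
def bz (x r : ℤ) : ℤ := if r < 0 then 0 else Ring.choose x r.toNat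

theorem bz_neg (x : ℤ) {r : ℤ} (h : r < 0) : bz x r = 0 := if_pos h

theorem bz_natCast (x : ℤ) (r : ℕ) : bz x r = Ring.choose x r := by
  rw [bz, if_neg (by omega), Int.toNat_natCast]

theorem bz_nat (x r : ℕ) : bz x r = Nat.choose x r := by
  rw [bz_natCast, Ring.choose_natCast]

theorem bz_zero (x : ℤ) : bz x 0 = 1 := by
  rw [show (0 : ℤ) = ((0 : ℕ) : ℤ) from rfl, bz_natCast, Ring.choose_zero_right]

theorem bz_pascal (x r : ℤ) : bz (x + 1) r = bz x r + bz x (r - 1) := by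
  rcases lt_trichotomy r 0 with h | h | h
  · rw [bz_neg _ h, bz_neg _ h, bz_neg _ (by omega), add_zero]
  · subst h; rw [bz_zero, bz_zero, bz_neg _ (by omega), add_zero]
  · obtain ⟨k, rfl⟩ : ∃ k : ℕ, r = (k : ℤ) + 1 := ⟨(r - 1).toNat, by omega⟩
    rw [show (k : ℤ) + 1 = ((k + 1 : ℕ) : ℤ) by push_cast; ring, bz_natCast, bz_natCast,
      show ((k + 1 : ℕ) : ℤ) - 1 = (k : ℤ) by push_cast; ring, bz_natCast, Ring.choose_succ_succ, add_comm]

theorem bz_refl (x : ℤ) (r : ℕ) : bz x r = (-1) ^ r * bz (r - x - 1) r := by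
  rw [bz_natCast, bz_natCast, show x = -(-x) by ring, Ring.choose_neg, Units.smul_def, smul_eq_mul,
    Int.coe_negOnePow_natCast]
  congr 2
  ring

variable {F : Type*} [Field F] {q : ℕ} (C : UCtx F q) (m : ℕ) (a : F)

/-- the form on the basis `(u - 1)^i x` -/
def gram (i j : ℕ) : F :=
  (-1) ^ i * (a * ((bz ((m : ℤ) - 1 - i) (2 * m - 1 - i - j) : ℤ) : F) +
    (a + C.bar a) * ((bz ((m : ℤ) - 1 - i) (2 * m - i - j) : ℤ) : F))

variable {m a}

theorem gram_high {i j : ℕ} (h : 2 * m < i + j) : gram C m a i j = 0 := by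
  rw [gram, bz_neg _ (by omega), bz_neg _ (by omega)]
  simp

theorem gram_anti {i j : ℕ} (h : i + j = 2 * m) : gram C m a i j = (-1) ^ i * (a + C.bar a) := by
  rw [gram, bz_neg _ (by omega), show (2 * (m : ℤ) - i - j) = 0 by omega, bz_zero]
  simp

theorem gram_herm (i j : ℕ) : C.bar (gram C m a i j) = gram C m a j i := by
  have hb : ∀ z : ℤ, C.bar (z : F) = (z : F) := fun z => map_intCast C.bar z
  rcases lt_trichotomy (2 * m) (i + j) with h | h | h
  · rw [gram_high C h, gram_high C (by omega), map_zero]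
  · have hpar : ((-1 : F)) ^ i = (-1) ^ j := neg_one_pow_congr (by rw [Nat.even_iff, Nat.even_iff]; omega)
    rw [gram_anti C h.symm, gram_anti C (by omega), hpar]
    simp only [map_mul, map_pow, map_neg, map_one, map_add, C.bar_bar]
    ring
  · obtain ⟨r, hr⟩ : ∃ r : ℕ, (2 * (m : ℤ) - 1 - i - j) = (r : ℤ) :=
      ⟨2 * m - 1 - i - j, by omega⟩
    have hr' : (2 * (m : ℤ) - i - j) = ((r + 1 : ℕ) : ℤ) := by push_cast; omega
    have e1 : bz ((m : ℤ) - 1 - i) r = (-1) ^ r * bz ((m : ℤ) - 1 - j) r := by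
      rw [bz_refl, show ((r : ℤ) - ((m : ℤ) - 1 - i) - 1) = (m : ℤ) - 1 - j by omega]
    have e2 : bz ((m : ℤ) - 1 - i) ((r + 1 : ℕ) : ℤ) =
        (-1) ^ (r + 1) * (bz ((m : ℤ) - 1 - j) ((r + 1 : ℕ) : ℤ) + bz ((m : ℤ) - 1 - j) r) := by
      rw [bz_refl, show (((r + 1 : ℕ) : ℤ) - ((m : ℤ) - 1 - i) - 1) = ((m : ℤ) - 1 - j) + 1 by
        push_cast; omega, bz_pascal]
      congr 3
      push_cast; ring
    have hsign : ((-1 : F)) ^ i * (-1) ^ r = -((-1) ^ j) := by
      rw [← pow_add, ← neg_one_mul ((-1 : F) ^ j), ← pow_succ']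
      exact neg_one_pow_congr (by rw [Nat.even_iff, Nat.even_iff]; omega)
    simp only [gram, hr, hr', show (2 * (m : ℤ) - 1 - j - i) = (r : ℤ) by omega,
      show (2 * (m : ℤ) - j - i) = ((r + 1 : ℕ) : ℤ) by push_cast; omega, e1, e2, map_mul, map_pow,
      map_neg, map_one, map_add, hb, C.bar_bar, Int.cast_mul, Int.cast_pow, Int.cast_neg, Int.cast_one,
      Int.cast_add]
    rw [pow_succ]
    linear_combination (C.bar a * ((bz ((m : ℤ) - 1 - j) r : ℤ) : F) -
      (C.bar a + a) * (((bz ((m : ℤ) - 1 - j) ((r + 1 : ℕ) : ℤ) : ℤ) : F) +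
        ((bz ((m : ℤ) - 1 - j) r : ℤ) : F))) * hsign

theorem gram_inv (i j : ℕ) :
    gram C m a (i + 1) j + gram C m a i (j + 1) + gram C m a (i + 1) (j + 1) = 0 := by
  simp only [gram, Nat.cast_add, Nat.cast_one]
  have p1 := bz_pascal ((m : ℤ) - 1 - (i + 1)) (2 * m - 1 - i - (j + 1))
  have p2 := bz_pascal ((m : ℤ) - 1 - (i + 1)) (2 * m - i - (j + 1))
  rw [show ((m : ℤ) - 1 - (i + 1)) + 1 = (m : ℤ) - 1 - i by ring] at p1 p2
  rw [show (2 * (m : ℤ) - 1 - (i + 1) - j) = 2 * (m : ℤ) - 1 - i - (j + 1) by ring,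
    show (2 * (m : ℤ) - (i + 1) - j) = 2 * (m : ℤ) - i - (j + 1) by ring,
    show (2 * (m : ℤ) - 1 - (i + 1) - (j + 1)) = 2 * (m : ℤ) - 1 - i - (j + 1) - 1 by ring,
    show (2 * (m : ℤ) - (i + 1) - (j + 1)) = 2 * (m : ℤ) - i - (j + 1) - 1 by ring, p1, p2]
  simp only [Int.cast_add]
  ring

theorem gram_zero_lt {j : ℕ} (hm : 1 ≤ m) (h : j < m) : gram C m a 0 j = 0 := by
  rw [gram, show ((m : ℤ) - 1 - (0 : ℕ)) = ((m - 1 : ℕ) : ℤ) by omega,
    show (2 * (m : ℤ) - 1 - (0 : ℕ) - j) = ((2 * m - 1 - j : ℕ) : ℤ) by omega,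
    show (2 * (m : ℤ) - (0 : ℕ) - j) = ((2 * m - j : ℕ) : ℤ) by omega, bz_nat, bz_nat,
    Nat.choose_eq_zero_of_lt (by omega), Nat.choose_eq_zero_of_lt (by omega)]
  simp

theorem gram_zero_m (hm : 1 ≤ m) : gram C m a 0 m = a := by
  rw [gram, show ((m : ℤ) - 1 - (0 : ℕ)) = ((m - 1 : ℕ) : ℤ) by omega,
    show (2 * (m : ℤ) - 1 - (0 : ℕ) - m) = ((m - 1 : ℕ) : ℤ) by omega,
    show (2 * (m : ℤ) - (0 : ℕ) - m) = ((m : ℕ) : ℤ) by omega, bz_nat, bz_nat,
    Nat.choose_self, Nat.choose_eq_zero_of_lt (by omega)]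
  simp

theorem gram_zero_succ (hm : 2 ≤ m) :
    gram C m a 0 (m + 1) = ((m - 1 : ℕ) : F) * a + (a + C.bar a) := by
  obtain ⟨k, rfl⟩ : ∃ k, m = k + 2 := ⟨m - 2, by omega⟩
  rw [gram, show (((k + 2 : ℕ) : ℤ) - 1 - (0 : ℕ)) = ((k + 1 : ℕ) : ℤ) by omega,
    show (2 * ((k + 2 : ℕ) : ℤ) - 1 - (0 : ℕ) - ((k + 2 + 1 : ℕ) : ℤ)) = ((k : ℕ) : ℤ) by omega,
    show (2 * ((k + 2 : ℕ) : ℤ) - (0 : ℕ) - ((k + 2 + 1 : ℕ) : ℤ)) = ((k + 1 : ℕ) : ℤ) by omega, bz_nat,
    bz_nat, Nat.choose_self, Nat.choose_succ_self_right]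
  simp [mul_comm]

/-! ### The model -/

variable (m a)

local notation "Vm" => Fin (2 * m + 1) → F

/-- the Gram matrix -/
def gMat : Matrix (Fin (2 * m + 1)) (Fin (2 * m + 1)) F := Matrix.of fun i j => gram C m a i j

/-- one plus the shift -/
def uMat : Matrix (Fin (2 * m + 1)) (Fin (2 * m + 1)) F :=
  Matrix.of fun i j => if i = j ∨ (i : ℕ) = (j : ℕ) + 1 then 1 else 0

/-- the hermitian form of the model -/
def mForm (v w : Vm) : F := v ⬝ᵥ (gMat C m a *ᵥ (C.bar ∘ w))

variable {m a}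

theorem uMat_mul (M : Matrix (Fin (2 * m + 1)) (Fin (2 * m + 1)) F) (i j) :
    ((uMat (F := F) m)ᵀ * M) i j =
      M i j + (if h : (i : ℕ) + 1 < 2 * m + 1 then M ⟨(i : ℕ) + 1, h⟩ j else 0) := by
  simp only [Matrix.mul_apply, Matrix.transpose_apply, uMat, Matrix.of_apply, ite_mul, one_mul, zero_mul]
  by_cases h : (i : ℕ) + 1 < 2 * m + 1
  · rw [dif_pos h, Finset.sum_eq_add (a := i) (b := ⟨(i : ℕ) + 1, h⟩) (fun e => by
      have := congrArg Fin.val e; simp at this)
      (fun c _ hc => if_neg (by rintro (rfl | e); exacts [hc.1 rfl, hc.2 (Fin.ext e)]))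
      (fun hh => absurd (Finset.mem_univ _) hh) (fun hh => absurd (Finset.mem_univ _) hh),
      if_pos (Or.inl rfl), if_pos (Or.inr rfl)]
  · rw [dif_neg h, Finset.sum_eq_single i (fun c _ hc => if_neg (by
      rintro (e | e); exacts [hc e, absurd c.2 (by omega)]))
      (fun hh => absurd (Finset.mem_univ _) hh), if_pos (Or.inl rfl), add_zero]

theorem gMat_inv : (uMat (F := F) m)ᵀ * gMat C m a * uMat m = gMat C m a := by
  have hg : ∀ (i : Fin (2 * m + 1)) (j : ℕ), (gram C m a i j +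
      if (i : ℕ) + 1 < 2 * m + 1 then gram C m a ((i : ℕ) + 1) j else 0) =
      gram C m a i j + gram C m a ((i : ℕ) + 1) j := fun i j => by
    split_ifs with h
    · rfl
    · rw [gram_high C (i := (i : ℕ) + 1) (by omega)]
  ext i j
  have h1 : ∀ k, ((uMat (F := F) m)ᵀ * gMat C m a) i k = gram C m a i k + gram C m a ((i : ℕ) + 1) k :=
    fun k => by
      rw [uMat_mul]
      by_cases h : (i : ℕ) + 1 < 2 * m + 1
      · rw [dif_pos h]; rfl
      · rw [dif_neg h, gram_high C (i := (i : ℕ) + 1) (by omega)]; rfl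
  rw [← Matrix.transpose_transpose ((uMat (F := F) m)ᵀ * gMat C m a * uMat m), Matrix.transpose_apply,
    Matrix.transpose_mul, uMat_mul, Matrix.transpose_apply, h1]
  by_cases h : (j : ℕ) + 1 < 2 * m + 1
  · rw [dif_pos h, Matrix.transpose_apply, h1]
    show gram C m a i j + gram C m a ((i : ℕ) + 1) j +
      (gram C m a i ((j : ℕ) + 1) + gram C m a ((i : ℕ) + 1) ((j : ℕ) + 1)) = gram C m a i j
    linear_combination gram_inv C (m := m) (a := a) (i : ℕ) (j : ℕ)
  · rw [dif_neg h, gram_high C (i := (i : ℕ) + 1) (by omega), add_zero, add_zero]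
    rfl

theorem uMat_bar (v : Vm) : C.bar ∘ (uMat (F := F) m *ᵥ v) = uMat m *ᵥ (C.bar ∘ v) := by
  funext i
  simp only [Function.comp, Matrix.mulVec, dotProduct, map_sum, map_mul, uMat, Matrix.of_apply, apply_ite C.bar,
    map_one, map_zero]

theorem mForm_inv (v w : Vm) : mForm C m a (uMat m *ᵥ v) (uMat m *ᵥ w) = mForm C m a v w := by
  rw [mForm, mForm, uMat_bar, Matrix.mulVec_mulVec, Matrix.dotProduct_mulVec, Matrix.vecMul_mulVec,
    ← Matrix.mul_assoc, gMat_inv, ← Matrix.dotProduct_mulVec]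

theorem mForm_herm (v w : Vm) : C.bar (mForm C m a v w) = mForm C m a w v := by
  simp only [mForm, dotProduct, Matrix.mulVec, map_sum, map_mul, Function.comp, C.bar_bar,
    gMat, Matrix.of_apply, gram_herm, Finset.mul_sum]
  rw [Finset.sum_comm]
  exact Finset.sum_congr rfl fun _ _ => Finset.sum_congr rfl fun _ _ => by ring

theorem gMat_inj (hb : a + C.bar a ≠ 0) {w : Vm} (h : gMat C m a *ᵥ w = 0) : w = 0 := by
  funext j
  induction hk : (j : ℕ) using Nat.strong_induction_on generalizing j with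
  | _ k ih =>
  subst hk
  have hi : 2 * m - (j : ℕ) < 2 * m + 1 := by omega
  have h1 := congrFun h ⟨2 * m - (j : ℕ), hi⟩
  simp only [Matrix.mulVec, dotProduct, gMat, Matrix.of_apply, Pi.zero_apply] at h1
  rw [Finset.sum_eq_single j (fun c _ hc => ?_) (fun hh => absurd (Finset.mem_univ _) hh),
    gram_anti C (by omega)] at h1
  · exact (mul_eq_zero.1 h1).resolve_left (mul_ne_zero (pow_ne_zero _ (neg_ne_zero.2 one_ne_zero)) hb)
  · rcases lt_or_gt_of_ne (fun e : (c : ℕ) = (j : ℕ) => hc (Fin.ext e)) with hlt | hgt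
    · rw [ih _ hlt c rfl, Pi.zero_apply, mul_zero]
    · rw [gram_high C (by omega), zero_mul]

theorem uMat_det : (uMat (F := F) m).det = 1 := by
  rw [Matrix.det_of_lowerTriangular]
  · exact Finset.prod_eq_one fun i _ => by simp [uMat]
  · intro i j hij
    have h : (i : ℕ) < (j : ℕ) := hij
    simp only [uMat, Matrix.of_apply]
    rw [if_neg]
    rintro (rfl | e) <;> omega

theorem shift_mulVec (v : Vm) (i : Fin (2 * m + 1)) :
    ((uMat (F := F) m - 1) *ᵥ v) i =
      if h : 1 ≤ (i : ℕ) then v ⟨(i : ℕ) - 1, by omega⟩ else 0 := by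
  simp only [Matrix.mulVec, dotProduct, Matrix.sub_apply, uMat, Matrix.of_apply]
  by_cases h : 1 ≤ (i : ℕ)
  · rw [dif_pos h, Finset.sum_eq_single (⟨(i : ℕ) - 1, by omega⟩ : Fin (2 * m + 1))]
    · rw [if_pos (Or.inr (by simp; omega)), Matrix.one_apply_ne (fun e => by
        have := congrArg Fin.val e; simp at this; omega)]
      ring
    · intro c _ hc
      by_cases hci : i = c
      · subst hci; simp
      · rw [if_neg (by rintro (e | e); exacts [hci e, hc (Fin.ext (by simp; omega))]),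
          Matrix.one_apply_ne hci]
        ring
    · exact fun hh => absurd (Finset.mem_univ _) hh
  · rw [dif_neg h]
    refine Finset.sum_eq_zero fun c _ => ?_
    by_cases hci : i = c
    · subst hci; simp
    · rw [if_neg (by rintro (e | e); exacts [hci e, absurd e (by omega)]), Matrix.one_apply_ne hci]
      ring

/-- the first basis vector -/
def topE (m : ℕ) (F : Type*) [Field F] : Fin (2 * m + 1) → F := Pi.single ⟨0, by omega⟩ 1

theorem shift_pow (k : ℕ) (i : Fin (2 * m + 1)) :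
    ((uMat (F := F) m - 1) ^ k *ᵥ topE m F) i = if (i : ℕ) = k then 1 else 0 := by
  induction k generalizing i with
  | zero =>
    rw [pow_zero, Matrix.one_mulVec, topE, Pi.single_apply]
    by_cases h : (i : ℕ) = 0
    · rw [if_pos (Fin.ext h), if_pos h]
    · rw [if_neg (fun e => h (congrArg Fin.val e)), if_neg h]
  | succ k ih =>
    rw [pow_succ', ← Matrix.mulVec_mulVec, shift_mulVec]
    by_cases h : 1 ≤ (i : ℕ)
    · rw [dif_pos h, ih]; simp only; congr 1; exact propext ⟨by omega, by omega⟩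
    · rw [dif_neg h, if_neg (by omega)]

theorem shift_nilpotent : (uMat (F := F) m - 1) ^ (2 * m + 1) = 0 := by
  have h : ∀ (k : ℕ) (v : Vm) (i : Fin (2 * m + 1)), (i : ℕ) < k →
      ((uMat (F := F) m - 1) ^ k *ᵥ v) i = 0 := by
    intro k
    induction k with
    | zero => intro v i hi; omega
    | succ k ih =>
      intro v i hi
      rw [pow_succ', ← Matrix.mulVec_mulVec, shift_mulVec]
      by_cases h : 1 ≤ (i : ℕ)
      · rw [dif_pos h]; exact ih _ _ (by simp; omega)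
      · rw [dif_neg h]
  exact Matrix.ext_iff_mulVec.2 fun v => funext fun i => by rw [h _ v i i.2, Matrix.zero_mulVec]; rfl

theorem uMat_pow_top (k : ℕ) (i : Fin (2 * m + 1)) :
    ((uMat (F := F) m) ^ k *ᵥ topE m F) i = (Nat.choose k (i : ℕ) : F) := by
  induction k generalizing i with
  | zero =>
    rw [pow_zero, Matrix.one_mulVec, topE, Pi.single_apply]
    by_cases h : (i : ℕ) = 0
    · rw [if_pos (Fin.ext h), h]; simp
    · rw [if_neg (fun e => h (congrArg Fin.val e)), Nat.choose_eq_zero_of_lt (Nat.pos_of_ne_zero h), Nat.cast_zero]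
  | succ k ih =>
    rw [pow_succ', ← Matrix.mulVec_mulVec,
      show uMat (F := F) m = (uMat m - 1) + 1 from (sub_add_cancel _ _).symm, Matrix.add_mulVec,
      Matrix.one_mulVec, Pi.add_apply, shift_mulVec, sub_add_cancel, ih]
    by_cases h : 1 ≤ (i : ℕ)
    · obtain ⟨l, hl⟩ : ∃ l, (i : ℕ) = l + 1 := ⟨(i : ℕ) - 1, by omega⟩
      rw [dif_pos h, ih]
      simp only [hl, add_tsub_cancel_right, Nat.choose_succ_succ', Nat.cast_add]
    · rw [dif_neg h, show (i : ℕ) = 0 by omega]; simp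

theorem mForm_top (k : ℕ) : mForm C m a (topE m F) (uMat m ^ k *ᵥ topE m F) =
    ∑ j : Fin (2 * m + 1), gram C m a 0 j * (Nat.choose k (j : ℕ) : F) := by
  rw [mForm, topE, single_dotProduct, one_mul]
  simp only [Matrix.mulVec, dotProduct]
  refine Finset.sum_congr rfl fun j _ => ?_
  congr 1
  show C.bar (((uMat (F := F) m) ^ k *ᵥ topE m F) j) = _
  rw [uMat_pow_top, map_natCast]

/-- the data used for generating `SU_{2m+1}` -/
structure OddData (C : UCtx F q) (m : ℕ) (a : F) where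
  u : ↥(Cfsg.SU (2 * m + 1) F q)
  x : Fin (2 * m + 1) → F
  regular : IsNilpotent (u.1.1 - 1) ∧ (u.1.1 - 1) ^ (2 * m + 1 - 1) ≠ 0
  span : Submodule.span F (Set.range fun i : Fin (2 * m + 1) => (u ^ (i : ℕ)).1.1 *ᵥ x) = ⊤
  small : ∀ k : ℕ, k < m → C.form x ((u ^ k).1.1 *ᵥ x) = 0
  at_m : C.form x ((u ^ m).1.1 *ᵥ x) = a
  at_succ : C.form x ((u ^ (m + 1)).1.1 *ᵥ x) = (2 * (m : F) + 1) * a + C.bar a

theorem exists_oddData [Fintype F] (C : UCtx F q) (m : ℕ) (hm : 2 ≤ m) (a : F)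
    (hb : a + C.bar a ≠ 0) : Nonempty (OddData C m a) := by
  classical
  set B : (Fin (2 * m + 1) → F) →ₛₗ[(C.bar : F →+* F)] (Fin (2 * m + 1) → F) →ₗ[F] F :=
    LinearMap.mk₂'ₛₗ (C.bar : F →+* F) (RingHom.id F) (fun u v => mForm C m a v u)
      (fun u u' v => by
        simp only [mForm, show C.bar ∘ (u + u') = C.bar ∘ u + C.bar ∘ u' from funext fun i => map_add C.bar _ _,
          Matrix.mulVec_add, dotProduct_add])
      (fun c u v => by
        simp only [mForm, show C.bar ∘ (c • u) = C.bar c • (C.bar ∘ u) from funext fun i => map_mul C.bar _ _,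
          Matrix.mulVec_smul, dotProduct_smul, RingHom.coe_coe])
      (fun u v v' => by simp only [mForm, add_dotProduct])
      (fun c u v => by simp only [mForm, smul_dotProduct, RingHom.id_apply]) with hBdef
  have hBap : ∀ u v, B u v = mForm C m a v u := fun u v => rfl
  have hS : B.IsSymm := ⟨fun u v => by rw [hBap, hBap]; exact mForm_herm C v u⟩
  have hnd : ∀ u, (∀ v, mForm C m a v u = 0) → u = 0 := fun u h => by
    have h1 : gMat C m a *ᵥ (C.bar ∘ u) = 0 := funext fun i => by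
      have := h (Pi.single i 1)
      rwa [mForm, single_dotProduct, one_mul] at this
    exact funext fun i => C.bar.injective ((congrFun (gMat_inj C hb h1) i).trans (map_zero _).symm)
  have hB : B.Nondegenerate := ⟨fun u h => hnd u fun v => h v, fun v h => hnd v fun u => by
    rw [← mForm_herm C, show mForm C m a v u = B u v from rfl, h u, map_zero]⟩
  obtain ⟨v, hv⟩ := CfsgLib.Classical.HermFrames.exists_orth
    (CfsgLib.Classical.HermFrames.bar_ne_id C) C.bar_bar hS hB (2 * m + 1) (by simp)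
  set P : Matrix (Fin (2 * m + 1)) (Fin (2 * m + 1)) F := Matrix.of fun i j => v j i with hP
  have hPv : ∀ z, P *ᵥ z = ∑ j, z j • v j := fun z => funext fun i => by
    simp [hP, Matrix.mulVec, dotProduct, mul_comm]
  have hPdet : IsUnit P.det := by
    rw [← Matrix.isUnit_iff_isUnit_det, ← Matrix.mulVec_injective_iff_isUnit]
    intro z z' h
    rw [hPv, hPv] at h
    have hli := CfsgLib.Classical.HermFrames.linearIndependent_of_orth hv
    funext i
    have h1 : ∑ j, (z j - z' j) • v j = 0 := by simp [sub_smul, h]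
    exact sub_eq_zero.1 (Fintype.linearIndependent_iff.1 hli _ h1 i)
  have hform : ∀ y z, C.form y z = mForm C m a (P *ᵥ y) (P *ᵥ z) := fun y z => by
    rw [← hBap, hPv, hPv]
    simp only [map_sum, LinearMap.map_smulₛₗ, LinearMap.sum_apply, LinearMap.smul_apply, map_smul, hv,
      smul_eq_mul, mul_ite, mul_one, mul_zero, Finset.sum_ite_eq', Finset.mem_univ, if_true, RingHom.coe_coe,
      RingHom.id_apply, UCtx.form]
  set M := P⁻¹ * uMat m * P with hM
  have hPM : ∀ z, P *ᵥ (M *ᵥ z) = uMat m *ᵥ (P *ᵥ z) := fun z => by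
    rw [hM, Matrix.mulVec_mulVec, Matrix.mulVec_mulVec, Matrix.mul_assoc P⁻¹,
      Matrix.mul_nonsing_inv_cancel_left _ _ hPdet]
  have hdet : M.det = 1 := by
    rw [hM, Matrix.det_conj' ((Matrix.isUnit_iff_isUnit_det P).2 hPdet), uMat_det]
  let u := C.mkSU M hdet fun y z => by rw [hform, hform y z, hPM, hPM, mForm_inv]
  set x := P⁻¹ *ᵥ topE m F with hx
  have hPx : P *ᵥ x = topE m F := by
    rw [hx, Matrix.mulVec_mulVec, Matrix.mul_nonsing_inv _ hPdet, Matrix.one_mulVec]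
  have hpow : ∀ k : ℕ, P *ᵥ ((u ^ k).1.1 *ᵥ x) = uMat m ^ k *ᵥ topE m F := fun k => by
    induction k with
    | zero => rw [pow_zero, su_one_mulVec, pow_zero, Matrix.one_mulVec, hPx]
    | succ k ih => rw [pow_succ', suMat_mulVec_mul, show u.1.1 = M from rfl, hPM, ih, pow_succ',
        ← Matrix.mulVec_mulVec]
  have hN : ∀ k : ℕ, ∀ z, P *ᵥ ((M - 1) ^ k *ᵥ z) = (uMat m - 1) ^ k *ᵥ (P *ᵥ z) := fun k => by
    induction k with
    | zero => intro z; simp
    | succ k ih =>
      intro z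
      rw [pow_succ', ← Matrix.mulVec_mulVec, Matrix.sub_mulVec, Matrix.one_mulVec, Matrix.mulVec_sub, hPM, ih,
        pow_succ', ← Matrix.mulVec_mulVec, Matrix.sub_mulVec, Matrix.one_mulVec]
  have hPinj : Function.Injective (P *ᵥ ·) :=
    Matrix.mulVec_injective_iff_isUnit.2 ((Matrix.isUnit_iff_isUnit_det P).2 hPdet)
  have hcor : ∀ k, C.form x ((u ^ k).1.1 *ᵥ x) = ∑ j : Fin (2 * m + 1), gram C m a 0 j * (Nat.choose k (j : ℕ) : F) :=
    fun k => by rw [hform, hPx, hpow, mForm_top]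
  have hlow : ∀ k, ∀ j : Fin (2 * m + 1), k < (j : ℕ) ∨ (j : ℕ) < m → gram C m a 0 j * (Nat.choose k (j : ℕ) : F) = 0 :=
    fun k j h => by
      rcases h with h | h
      · rw [Nat.choose_eq_zero_of_lt h, Nat.cast_zero, mul_zero]
      · rw [gram_zero_lt C (by omega) h, zero_mul]
  refine ⟨⟨u, x, ⟨⟨2 * m + 1, ?_⟩, ?_⟩, ?_, fun k hk => ?_, ?_, ?_⟩⟩
  · refine Matrix.ext_iff_mulVec.2 fun z => hPinj ?_
    show P *ᵥ ((M - 1) ^ (2 * m + 1) *ᵥ z) = P *ᵥ (0 *ᵥ z)
    rw [hN, shift_nilpotent, Matrix.zero_mulVec, Matrix.zero_mulVec, Matrix.mulVec_zero]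
  · intro h0
    have h1 := shift_pow (F := F) (2 * m) (⟨2 * m, by omega⟩ : Fin (2 * m + 1))
    rw [if_pos rfl, ← hPx, ← hN, show (M - 1) ^ (2 * m) = 0 from h0, Matrix.zero_mulVec, Matrix.mulVec_zero] at h1
    exact zero_ne_one h1
  · set S := Submodule.span F (Set.range fun i : Fin (2 * m + 1) => (u ^ (i : ℕ)).1.1 *ᵥ x)
    set T := S.map (Matrix.toLin' P)
    have hmemT : ∀ k : Fin (2 * m + 1), uMat m ^ (k : ℕ) *ᵥ topE m F ∈ T := fun k =>
      ⟨_, Submodule.subset_span ⟨k, rfl⟩, by rw [Matrix.toLin'_apply, hpow]⟩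
    have hsing : ∀ i : Fin (2 * m + 1), (Pi.single i 1 : (Fin (2 * m + 1) → F)) ∈ T := by
      intro i
      induction hk : (i : ℕ) using Nat.strong_induction_on generalizing i with
      | _ k ih =>
      subst hk
      have hd : (Pi.single i 1 : (Fin (2 * m + 1) → F)) = uMat m ^ (i : ℕ) *ᵥ topE m F -
          ∑ j ∈ Finset.univ.filter (fun j : Fin (2 * m + 1) => j < i), (Nat.choose (i : ℕ) (j : ℕ) : F) • Pi.single j 1 := by
        funext l
        rw [Pi.sub_apply, uMat_pow_top, Finset.sum_apply, Pi.single_apply]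
        simp only [Pi.smul_apply, Pi.single_apply, smul_eq_mul, mul_ite, mul_one, mul_zero, Finset.sum_ite_eq,
          Finset.mem_filter, Finset.mem_univ, true_and]
        rcases lt_trichotomy l i with h | h | h
        · rw [if_neg h.ne, if_pos h, sub_self]
        · subst h; simp
        · rw [if_neg h.ne', if_neg (lt_asymm h), Nat.choose_eq_zero_of_lt h, Nat.cast_zero, sub_zero]
      rw [hd]
      exact T.sub_mem (hmemT i) (T.sum_mem fun j hj => T.smul_mem _ (ih _ (Finset.mem_filter.1 hj).2 j rfl))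
    refine eq_top_iff.2 fun z _ => ?_
    have hz : P *ᵥ z ∈ T := by
      rw [pi_eq_sum_univ' (P *ᵥ z)]
      exact T.sum_mem fun i _ => T.smul_mem _ (hsing i)
    obtain ⟨w, hw, hwz⟩ := hz
    rw [Matrix.toLin'_apply] at hwz
    exact hPinj hwz ▸ hw
  · rw [hcor]
    exact Finset.sum_eq_zero fun j _ => hlow k j (by omega)
  · rw [hcor, Finset.sum_eq_single (⟨m, by omega⟩ : Fin (2 * m + 1)) (fun j _ hj => hlow m j (by
      rcases lt_or_gt_of_ne (fun e : (j : ℕ) = m => hj (Fin.ext e)) with h | h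
      · exact Or.inr h
      · exact Or.inl h)) (fun hh => absurd (Finset.mem_univ _) hh)]
    simp [gram_zero_m C (by omega : 1 ≤ m)]
  · rw [hcor, Finset.sum_eq_add (a := (⟨m, by omega⟩ : Fin (2 * m + 1))) (b := ⟨m + 1, by omega⟩)
      (by simp [Fin.ext_iff]) (fun j _ hj => hlow (m + 1) j (by
        have h1 : (j : ℕ) ≠ m := fun e => hj.1 (Fin.ext e)
        have h2 : (j : ℕ) ≠ m + 1 := fun e => hj.2 (Fin.ext e)
        omega)) (fun hh => absurd (Finset.mem_univ _) hh) (fun hh => absurd (Finset.mem_univ _) hh)]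
    simp only [gram_zero_m C (by omega : 1 ≤ m), gram_zero_succ C hm, Nat.choose_self,
      Nat.choose_succ_self_right, Nat.cast_one, mul_one]
    rw [Nat.cast_sub (by omega : 1 ≤ m)]
    push_cast
    ring

end CfsgLib.RegUnip.SUOdd
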