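import Cfsg.Agent.Lib.Perm.Trans.UnitMax
import Cfsg.Agent.Lib.Perm.Trans.UnitSubfMax

/-!
A unitary matrix group whose transvection centres contain a spanning connected family of isotropic vectors, in
odd dimension, has every isotropic vector as a centre. In odd dimension some triangle of centres is not
degenerate, since a skew-symmetric matrix with zero diagonal of odd size is singular.
-/

set_option autoImplicit false

namespace CfsgLib.RegUnip.SUOdd

open Matrix Cfsg.Geo CfsgLib.Perm.Trans CfsgLib.Perm.Trans.Unit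

/-- a skew-symmetric matrix with zero diagonal of odd size is singular, over every ring -/
theorem det_skew_odd {R : Type*} [CommRing R] {κ : Type*} [Fintype κ] [DecidableEq κ] [LinearOrder κ]
    (hodd : Odd (Fintype.card κ)) (G : Matrix κ κ R) (hd : ∀ i, G i i = 0) (hs : ∀ i j, G j i = -G i j) :
    G.det = 0 := by
  set A : Matrix κ κ (MvPolynomial (κ × κ) ℤ) := Matrix.of fun i j =>
    if i < j then MvPolynomial.X (i, j) else if j < i then -MvPolynomial.X (j, i) else 0 with hA
  have hAt : Aᵀ = -A := by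
    ext i j
    simp only [Matrix.transpose_apply, Matrix.neg_apply, hA, Matrix.of_apply]
    rcases lt_trichotomy i j with h | h | h
    · simp [h, lt_asymm h]
    · subst h; simp
    · simp [h, lt_asymm h]
  have hdet : A.det = 0 := by
    have h1 := congrArg Matrix.det hAt
    rw [Matrix.det_transpose, Matrix.det_neg, hodd.neg_one_pow, neg_one_mul] at h1
    exact self_eq_neg.1 h1
  set ev : MvPolynomial (κ × κ) ℤ →+* R := MvPolynomial.eval₂Hom (Int.castRingHom R) (fun p => G p.1 p.2)
  have hmap : A.map ev = G := by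
    ext i j
    simp only [Matrix.map_apply, hA, Matrix.of_apply]
    rcases lt_trichotomy i j with h | h | h
    · simp [h, ev]
    · subst h; simp [hd]
    · simp [h, lt_asymm h, ev, hs j i]
  rw [← hmap, show A.map ev = ev.mapMatrix A from rfl, ← RingHom.map_det, hdet, map_zero]

variable {ι : Type} [Fintype ι] [DecidableEq ι] {F : Type*} [Field F] [Fintype F]
variable {σ : F ≃+* F} {f : (ι → F) → (ι → F) → F} (hf : IsUnitaryForm σ f)
variable {M : Subgroup (GL ι F)} (hle : M ≤ isoU f)

local notation "Vec" => ι → F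

include hf hle

/-- two non-orthogonal centres give a plane of centres -/
theorem u_plane_full {e h : Vec} (he : e ∈ centres hf M) (hh : h ∈ centres hf M) (heh : f e h ≠ 0)
    {v : Vec} (hv : v ∈ Submodule.span F ({e, h} : Set Vec)) (hvv : f v v = 0) : v ∈ centres hf M := by
  obtain ⟨s, t, rfl⟩ := Submodule.mem_span_pair.1 hv
  rcases eq_or_ne s 0 with rfl | hs
  · rw [zero_smul, zero_add]; exact centres_smul hf hh t
  rw [show s • e + t • h = s • (e + (t / s) • h) by rw [smul_add, smul_smul, mul_div_cancel₀ _ hs]] at hvv ⊢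
  refine centres_smul hf (centres_line hf hle he hh heh ?_) s
  rw [hf.smul_left, herm_smul_right hf] at hvv
  exact (mul_eq_zero.1 ((mul_eq_zero.1 hvv).resolve_left hs)).resolve_left (by simpa using hs)

omit hle in
theorem u_plane_nondeg {e h : Vec} (he : e ∈ centres hf M) (hh : h ∈ centres hf M) (heh : f e h ≠ 0) :
    IsNondegenerateOn f (Submodule.span F ({e, h} : Set Vec)) ∧
      Module.finrank F (Submodule.span F ({e, h} : Set Vec)) = 2 := by
  set c := σ (f e h)⁻¹ with hc
  have hc0 : c ≠ 0 := by rw [hc]; simpa using heh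
  have h1 : f e (c • h) = 1 := by rw [herm_smul_right hf, hc, hf.involutive, inv_mul_cancel₀ heh]
  have hh' := (centres_smul hf hh c).1
  have hspan : Submodule.span F ({e, h} : Set Vec) = Submodule.span F {e, c • h} := by
    refine le_antisymm (Submodule.span_le.2 ?_) (Submodule.span_le.2 ?_)
    · rintro x (rfl | rfl)
      · exact Submodule.subset_span (Set.mem_insert _ _)
      · have h2 : c • x ∈ Submodule.span F ({e, c • x} : Set Vec) :=
          Submodule.subset_span (Set.mem_insert_of_mem _ rfl)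
        simpa [smul_smul, hc0] using Submodule.smul_mem _ c⁻¹ h2
    · rintro x (rfl | rfl)
      · exact Submodule.subset_span (Set.mem_insert _ _)
      · exact Submodule.smul_mem _ _ (Submodule.subset_span (Set.mem_insert_of_mem _ rfl))
  rw [hspan]
  exact ⟨isNondegenerateOn_pair hf he.1 hh' h1, finrank_pair hf he.1 hh' h1⟩

omit hle in
theorem u_hasTv {W : Submodule F Vec} (hWC : ∀ u ∈ W, f u u = 0 → u ∈ centres hf M) : HasTv hf M W :=
  fun u hu huu c hc => (hWC u hu huu).2 c hc

/-- enlarging by an anisotropic component -/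
theorem u_extend {W : Submodule F Vec} (hW : IsNondegenerateOn f W)
    (hWC : ∀ u ∈ W, f u u = 0 → u ∈ centres hf M) (hdim : 2 ≤ Module.finrank F W)
    (hgood : Module.finrank F W ≠ 3 ∨ 4 < Fintype.card F)
    {w r : Vec} (hw : w ∈ W) (hr : r ∈ perp hf W) (hrr : f r r ≠ 0) (hc : w + r ∈ centres hf M) :
    IsNondegenerateOn f (W ⊔ Submodule.span F {r}) ∧
      Module.finrank F W + 1 ≤ Module.finrank F ↥(W ⊔ Submodule.span F {r}) ∧
      ∀ u ∈ W ⊔ Submodule.span F {r}, f u u = 0 → u ∈ centres hf M := by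
  refine ⟨nondeg_sup_singleton hf hW hrr hr, ?_, fun u hu huu => ?_⟩
  · have hlt : W < W ⊔ Submodule.span F {r} := lt_of_le_of_ne le_sup_left fun hEq => hrr (hr r (by
      rw [hEq]; exact Submodule.mem_sup_right (Submodule.mem_span_singleton_self r)))
    exact Submodule.finrank_lt_finrank_of_lt hlt
  obtain ⟨q, hq, _, hy, rfl⟩ := Submodule.mem_sup.1 hu
  obtain ⟨t, rfl⟩ := Submodule.mem_span_singleton.1 hy
  rcases eq_or_ne t 0 with rfl | ht
  · rw [zero_smul, add_zero] at huu ⊢
    exact hWC q hq huu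
  have hnorm : ∀ z ∈ W, f (z + r) (z + r) = 0 → f z z = -f r r := fun z hz h => by
    rw [hf.add_left, herm_add_right hf, herm_add_right hf, herm_swap_zero hf (hr z hz), hr z hz] at h
    linear_combination h
  obtain ⟨z, hz⟩ : ∃ z, z = t⁻¹ • q := ⟨_, rfl⟩
  have hzW : z ∈ W := hz ▸ W.smul_mem _ hq
  rw [show q + t • r = t • (z + r) by rw [smul_add, hz, smul_smul, mul_inv_cancel₀ ht, one_smul]] at huu ⊢
  have hzz : f (z + r) (z + r) = 0 := by
    rw [hf.smul_left, herm_smul_right hf] at huu
    exact (mul_eq_zero.1 ((mul_eq_zero.1 huu).resolve_left ht)).resolve_left (by simpa using ht)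
  obtain ⟨g, hg, hgw⟩ := fixU_norm_move hf hW hdim hw hzW ((hnorm w hw hc.1).trans (hnorm z hzW hzz).symm)
    (by rw [hnorm w hw hc.1]; exact neg_ne_zero.2 hrr)
  have h2 := centres_conj hf hle (mem_of_fix hf hW (u_hasTv hf hWC) hgood hg) hc
  rw [mulVec_add, hgw, hg.2 _ hr] at h2
  exact centres_smul hf h2 t

/-- some centre has an anisotropic component outside a full subspace of dimension at least three -/
theorem u_step {W : Submodule F Vec} (hW : IsNondegenerateOn f W)
    (hWC : ∀ u ∈ W, f u u = 0 → u ∈ centres hf M) (hdim : 3 ≤ Module.finrank F W) (htop : W ≠ ⊤)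
    {N : Type*} (x : N → Vec) (hx : ∀ i, x i ∈ centres hf M) (hspan : Submodule.span F (Set.range x) = ⊤)
    (hconn : ∀ P : N → Prop, (∀ i j, P i → f (x i) (x j) ≠ 0 → P j) → ∀ i j, P i → P j) :
    ∃ w ∈ W, ∃ r ∈ perp hf W, f r r ≠ 0 ∧ w + r ∈ centres hf M := by
  classical
  by_contra hcon
  push Not at hcon
  -- every component is isotropic
  have hiso : ∀ w ∈ W, ∀ r ∈ perp hf W, w + r ∈ centres hf M → f r r = 0 ∧ f w w = 0 := fun w hw r hr h => by
    have h0 : f r r = 0 := by
      by_contra h0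
      exact hcon w hw r hr h0 h
    have h1 := h.1
    rw [hf.add_left, herm_add_right hf, herm_add_right hf, herm_swap_zero hf (hr w hw), hr w hw, h0] at h1
    exact ⟨h0, by linear_combination h1⟩
  have hW0 : W ≠ ⊥ := fun h => by rw [h, finrank_bot] at hdim; omega
  obtain ⟨i, hi, hi'⟩ : ∃ i, x i ∉ W ∧ x i ∉ perp hf W := by
    by_contra hcon'
    push Not at hcon'
    have hclosed : ∀ i j, x i ∈ W → f (x i) (x j) ≠ 0 → x j ∈ W := fun i j hi hne => by
      by_contra hj
      exact hne (herm_swap_zero hf ((hcon' j hj) _ hi))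
    by_cases hex : ∃ i, x i ∈ W
    · obtain ⟨i, hi⟩ := hex
      refine htop (eq_top_iff.2 ?_)
      rw [← hspan, Submodule.span_le]
      rintro _ ⟨j, rfl⟩
      exact hconn (fun i => x i ∈ W) hclosed i j hi
    · push Not at hex
      refine hW0 (eq_bot_iff.2 fun w hw => (Submodule.mem_bot F).2 (disjoint_perp hf hW hw ?_))
      have hall : (⊤ : Submodule F Vec) ≤ perp hf W := by
        rw [← hspan, Submodule.span_le]
        rintro _ ⟨j, rfl⟩
        exact hcon' j (hex j)
      exact hall Submodule.mem_top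
  obtain ⟨w, hw, hr⟩ := exists_decomp hf hW (x i)
  obtain ⟨r, hrdef⟩ : ∃ r, r = x i - w := ⟨_, rfl⟩
  rw [← hrdef] at hr
  have hwr : w + r ∈ centres hf M := by rw [hrdef, add_sub_cancel]; exact hx i
  have hr0 : r ≠ 0 := fun h => hi (by rw [hrdef, sub_eq_zero] at h; rw [h]; exact hw)
  have hw0 : w ≠ 0 := fun h => hi' (by rw [hrdef, h, sub_zero] at hr; exact hr)
  obtain ⟨hrr, hww⟩ := hiso w hw r hr hwr
  obtain ⟨j, hj⟩ : ∃ j, f r (x j) ≠ 0 := by
    by_contra hcon'
    push Not at hcon'
    obtain ⟨y, hy⟩ := (hf.nondegenerate r hr0).2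
    suffices hall : ∀ z ∈ Submodule.span F (Set.range x), f r z = 0 from
      hy (hall y (hspan ▸ Submodule.mem_top))
    intro z hz
    clear hy
    induction hz using Submodule.span_induction with
    | mem z hz => obtain ⟨k, rfl⟩ := hz; exact hcon' k
    | zero => exact herm_zero_right hf r
    | add a b _ _ ha hb => rw [herm_add_right hf, ha, hb, add_zero]
    | smul a b _ hb => rw [herm_smul_right hf, hb, mul_zero]
  obtain ⟨τ, hτ, hτσ⟩ := exists_trace_zero hf
  -- a second centre with both components non-zero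
  obtain ⟨w', hw', r', hr', hw'0, hc', hy⟩ : ∃ w' ∈ W, ∃ r' ∈ perp hf W,
      w' ≠ 0 ∧ f r r' ≠ 0 ∧ w' + r' ∈ centres hf M := by
    obtain ⟨w', hw', hr'⟩ := exists_decomp hf hW (x j)
    obtain ⟨r', hr'def⟩ : ∃ r', r' = x j - w' := ⟨_, rfl⟩
    rw [← hr'def] at hr'
    have hc' : f r r' ≠ 0 := by rwa [hr'def, herm_sub_right hf, hr w' hw', sub_zero]
    have hy : w' + r' ∈ centres hf M := by rw [hr'def, add_sub_cancel]; exact hx j
    by_cases hw'0 : w' = 0
    swap
    · exact ⟨w', hw', r', hr', hw'0, hc', hy⟩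
    rw [hw'0, zero_add] at hy
    refine ⟨w, hw, r + σ (τ / f r r') • r', (perp hf W).add_mem hr ((perp hf W).smul_mem _ hr'), hw0, ?_, ?_⟩
    · rw [herm_add_right hf, hrr, zero_add, herm_smul_right hf, hf.involutive, div_mul_cancel₀ _ hc']
      exact hτ
    · rw [← add_assoc]
      refine centres_line hf hle hwr hy ?_ ?_
      · rwa [hf.add_left, herm_swap_zero hf (hr' w hw), zero_add]
      · rw [herm_line hf, hwr.1, hy.1, hf.herm r' (w + r), hf.add_left, herm_swap_zero hf (hr' w hw),
          zero_add, hf.involutive, ← map_mul, zero_add, div_mul_cancel₀ _ hc', hτσ]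
        ring
  obtain ⟨hr'r', hw'w'⟩ := hiso w' hw' r' hr' hy
  obtain ⟨θ, hθ⟩ := exists_not_fixed hf
  have hθ0 : θ ≠ 0 := fun h => hθ (by rw [h, map_zero])
  obtain ⟨y', hy', hwy'⟩ := (hW w' hw' hw'0).2
  obtain ⟨h, hh, hhh, hwh, hhw⟩ := exists_partner hf hw' hw'w' hy' hwy'
  obtain ⟨c, hc⟩ : ∃ c, c = f r r' := ⟨_, rfl⟩
  have hh0 : h ≠ 0 := fun h0 => one_ne_zero (hhw.symm.trans (by rw [h0, herm_zero_left hf]))
  obtain ⟨g, hg, hgw⟩ := move_iso_vec hf (u_hasTv hf hWC) hW hdim (x := w) (y := (θ * c) • h) hw (W.smul_mem _ hh)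
    hw0 (smul_ne_zero (mul_ne_zero hθ0 (hc ▸ hc')) hh0) hww
    (by rw [hf.smul_left, herm_smul_right hf, hhh, mul_zero, mul_zero])
  have hx' := centres_conj hf hle hg.1 hwr
  rw [mulVec_add, hgw, hg.2.2 _ hr] at hx'
  have hθ1 : θ + 1 ≠ 0 := fun h0 => hθ (by
    rw [show θ = -1 by linear_combination h0, map_neg, map_one])
  obtain ⟨s, hs⟩ : ∃ s, s = f ((θ * c) • h + r) (w' + r') := ⟨_, rfl⟩
  have hs' : s = (θ + 1) * c := by
    rw [hs, hf.add_left, herm_add_right hf, herm_add_right hf, hf.smul_left, hf.smul_left, hhw,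
      herm_swap_zero hf (hr' h hh), hr w' hw', ← hc]
    ring
  have hs0 : s ≠ 0 := by rw [hs']; exact mul_ne_zero hθ1 (hc ▸ hc')
  obtain ⟨ρ, hρ⟩ : ∃ ρ, ρ = σ (τ / s) := ⟨_, rfl⟩
  have hz := centres_line hf hle hx' hy (r := ρ) (hs ▸ hs0) (by
    rw [herm_line hf, hx'.1, hy.1, hf.herm (w' + r'), ← hs, hρ, hf.involutive, ← map_mul,
      div_mul_cancel₀ _ hs0, hτσ]
    ring)
  rw [show (θ * c) • h + r + ρ • (w' + r') = ((θ * c) • h + ρ • w') + (r + ρ • r') by
    rw [smul_add]; abel] at hz
  have h3 := (hiso _ (W.add_mem (W.smul_mem _ hh) (W.smul_mem _ hw')) _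
    ((perp hf W).add_mem hr ((perp hf W).smul_mem _ hr')) hz).1
  rw [herm_line hf, hrr, hr'r', hf.herm r' r, ← hc, hρ, hf.involutive, ← map_mul] at h3
  have h4 : τ / s * c = τ / (θ + 1) := by rw [hs']; field_simp [hc ▸ hc']
  rw [h4, map_div₀, hτσ, map_add, map_one] at h3
  have hθσ : σ θ + 1 ≠ 0 := fun h0 => hθ1 (by
    have := congrArg σ h0; rwa [map_add, map_one, map_zero, hf.involutive] at this)
  simp only [zero_add, mul_zero, add_zero] at h3
  field_simp at h3
  exact hθ (mul_left_cancel₀ hτ (by linear_combination h3))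

/-- in odd dimension a triangle of centres is not degenerate -/
theorem u_triangle (hodd : Odd (Fintype.card ι))
    {N : Type*} (x : N → Vec) (hx : ∀ i, x i ∈ centres hf M) (hspan : Submodule.span F (Set.range x) = ⊤)
    (hconn : ∀ P : N → Prop, (∀ i j, P i → f (x i) (x j) ≠ 0 → P j) → ∀ i j, P i → P j) :
    ∃ a b c : Vec, a ∈ centres hf M ∧ b ∈ centres hf M ∧ c ∈ centres hf M ∧ f a b ≠ 0 ∧
      f a b * f b c * f c a + σ (f a b * f b c * f c a) ≠ 0 := by
  classical
  by_contra hcon
  push Not at hcon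
  obtain ⟨i₀⟩ : Nonempty N := by
    by_contra hN
    haveI := not_nonempty_iff.1 hN
    rw [Set.range_eq_empty x, Submodule.span_empty] at hspan
    have h1 := congrArg (fun S : Submodule F Vec => Module.finrank F S) hspan
    simp only [finrank_bot, finrank_top, Module.finrank_fintype_fun_eq_card] at h1
    exact absurd hodd (by rw [← h1]; decide)
  set e := x i₀ with he
  have heC := hx i₀
  obtain ⟨τ, hτ, hτσ⟩ := exists_trace_zero hf
  -- an orthogonal of a shortened path
  have short : ∀ a b c, a ∈ centres hf M → b ∈ centres hf M → f a b ≠ 0 → f b c ≠ 0 → f a c = 0 →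
      ∃ ρ : F, a + ρ • b ∈ centres hf M ∧ f (a + ρ • b) a ≠ 0 ∧ f (a + ρ • b) c ≠ 0 := by
    intro a b c ha hb hab hbc hac
    refine ⟨σ (τ / f a b), centres_line hf hle ha hb hab ?_, ?_, ?_⟩
    · rw [herm_line hf, ha.1, hb.1, hf.herm b a, hf.involutive, ← map_mul, div_mul_cancel₀ _ hab, hτσ]
      ring
    · rw [hf.add_left, ha.1, zero_add, hf.smul_left, hf.herm b a, ← map_mul, div_mul_cancel₀ _ hab]
      simpa using hτ
    · rw [hf.add_left, hac, zero_add, hf.smul_left]
      exact mul_ne_zero (by simpa [hab] using hτ) hbc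
  -- distance two from `e`
  have two : ∀ i, x i = e ∨ f e (x i) ≠ 0 ∨ ∃ y ∈ centres hf M, f e y ≠ 0 ∧ f y (x i) ≠ 0 := by
    intro i
    refine hconn (fun i => x i = e ∨ f e (x i) ≠ 0 ∨ ∃ y ∈ centres hf M, f e y ≠ 0 ∧ f y (x i) ≠ 0) ?_ i₀ i
      (Or.inl rfl)
    intro j k hj hjk
    by_cases hk : f e (x k) = 0
    swap
    · exact Or.inr (Or.inl hk)
    rcases hj with hj | hj | ⟨y, hy, hey, hyj⟩
    · exact absurd hk (hj ▸ hjk)
    · exact Or.inr (Or.inr ⟨_, hx j, hj, hjk⟩)
    by_cases hyk : f y (x k) = 0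
    swap
    · exact Or.inr (Or.inr ⟨y, hy, hey, hyk⟩)
    by_cases hje : f e (x j) = 0
    swap
    · exact Or.inr (Or.inr ⟨_, hx j, hje, hjk⟩)
    obtain ⟨ρ, hρ, -, hρk⟩ := short y (x j) (x k) hy (hx j) hyj hjk hyk
    refine Or.inr (Or.inr ⟨_, hρ, ?_, hρk⟩)
    rw [herm_add_right hf, herm_smul_right hf, hje, mul_zero, add_zero]
    exact hey
  -- centres adjacent to `e`, normalised
  set S : Set Vec := {y | y ∈ centres hf M ∧ f e y = τ} with hS
  have hnorm : ∀ y ∈ centres hf M, f e y ≠ 0 → y ∈ Submodule.span F S := fun y hy hey => by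
    obtain ⟨c, hc⟩ : ∃ c, c = σ (τ / f e y) := ⟨_, rfl⟩
    have hc0 : c ≠ 0 := by rw [hc]; simpa [hey] using hτ
    have h1 : c • y ∈ Submodule.span F S := Submodule.subset_span ⟨centres_smul hf hy c, by
      rw [herm_smul_right hf, hc, hf.involutive, div_mul_cancel₀ _ hey]⟩
    simpa [smul_smul, hc0] using Submodule.smul_mem _ c⁻¹ h1
  have hother : ∀ i, x i ≠ e → x i ∈ Submodule.span F S := fun i hi => by
    rcases two i with h | h | ⟨y, hy, hey, hyi⟩
    · exact absurd h hi
    · exact hnorm _ (hx i) h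
    by_cases hei : f e (x i) = 0
    swap
    · exact hnorm _ (hx i) hei
    obtain ⟨ρ, hρ, -, hρe⟩ := short (x i) y e (hx i) hy (fun h => hyi (herm_swap_zero hf h))
      (fun h => hey (herm_swap_zero hf h)) (herm_swap_zero hf hei)
    have h1 := hnorm _ hρ (fun h => hρe (herm_swap_zero hf h))
    have h2 := Submodule.sub_mem _ h1 (Submodule.smul_mem _ ρ (hnorm y hy hey))
    rwa [add_sub_cancel_right] at h2
  have hskew : ∀ y ∈ S, ∀ z ∈ S, f z y = -f y z := by
    intro y hy z hz
    have h1 := hcon e y z heC hy.1 hz.1 (hy.2 ▸ hτ)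
    rw [hy.2, show f z e = -τ by rw [hf.herm, hz.2, hτσ], map_mul, map_mul, hτσ, map_neg, hτσ, ← hf.herm] at h1
    have h2 : (-(τ * τ)) * (f z y + f y z) = 0 := by linear_combination h1
    exact eq_neg_of_add_eq_zero_left ((mul_eq_zero.1 h2).resolve_left (neg_ne_zero.2 (mul_ne_zero hτ hτ)))
  -- the whole space
  set S' : Set Vec := insert e S with hS'
  have hS'span : Submodule.span F S' = ⊤ := by
    rw [eq_top_iff, ← hspan, Submodule.span_le]
    rintro _ ⟨i, rfl⟩
    by_cases hi : x i = e
    · rw [hi]; exact Submodule.subset_span (Set.mem_insert _ _)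
    · exact Submodule.span_mono (Set.subset_insert _ _) (hother i hi)
  have hskew' : ∀ y ∈ S', ∀ z ∈ S', f z y = -f y z ∧ f y y = 0 := by
    have hes : ∀ z ∈ S, f z e = -f e z := fun z hz => by rw [hf.herm, hz.2, hτσ]
    rintro y (rfl | hy) z (rfl | hz)
    · exact ⟨by rw [heC.1, neg_zero], heC.1⟩
    · exact ⟨hes z hz, heC.1⟩
    · exact ⟨by rw [hes y hy, neg_neg], hy.1.1⟩
    · exact ⟨hskew y hy z hz, hy.1.1⟩
  obtain ⟨b, hbS, hbspan, hbli⟩ := exists_linearIndependent F S'
  rw [hS'span] at hbspan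
  haveI : Fintype b := (LinearIndependent.setFinite hbli).fintype
  have hcard : Fintype.card b = Fintype.card ι := by
    have h1 := finrank_span_eq_card hbli
    rw [Subtype.range_coe, hbspan, finrank_top, Module.finrank_fintype_fun_eq_card] at h1
    exact h1.symm
  let ε : Fin (Fintype.card b) ≃ b := (Fintype.equivFin b).symm
  have hdet := det_skew_odd (R := F) (κ := Fin (Fintype.card b)) (by rw [Fintype.card_fin, hcard]; exact hodd)
    (Matrix.of fun i j => f (ε i : Vec) (ε j : Vec)) (fun i => (hskew' _ (hbS (ε i).2) _ (hbS (ε i).2)).2)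
    (fun i j => (hskew' _ (hbS (ε i).2) _ (hbS (ε j).2)).1)
  obtain ⟨v, hv, hvG⟩ := Matrix.exists_mulVec_eq_zero_iff.2 hdet
  set z : Vec := ∑ j, σ (v j) • (ε j : Vec) with hz
  have hperp : ∀ i, f (ε i : Vec) z = 0 := fun i => by
    have h1 := congrFun hvG i
    rw [Matrix.mulVec, dotProduct, Pi.zero_apply] at h1
    have h2 : ∀ (s : Finset (Fin (Fintype.card b))), f (ε i : Vec) (∑ j ∈ s, σ (v j) • (ε j : Vec)) =
        ∑ j ∈ s, f (ε i : Vec) (ε j : Vec) * v j := fun s => by
      induction s using Finset.induction_on with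
      | empty => simp [herm_zero_right hf]
      | @insert k s hk ih =>
        rw [Finset.sum_insert hk, Finset.sum_insert hk, herm_add_right hf, ih, herm_smul_right hf, hf.involutive,
          mul_comm]
    rw [hz, h2]
    exact h1
  have hz0 : z = 0 := by
    by_contra hne
    obtain ⟨y, hy⟩ := (hf.nondegenerate z hne).1
    suffices hall : ∀ y ∈ Submodule.span F b, f y z = 0 from hy (hall y (hbspan ▸ Submodule.mem_top))
    intro y' hy'
    clear hy
    induction hy' using Submodule.span_induction with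
    | mem u hu =>
      have := hperp (ε.symm ⟨u, hu⟩)
      rwa [Equiv.apply_symm_apply] at this
    | zero => exact herm_zero_left hf z
    | add a c _ _ ha hc => rw [hf.add_left, ha, hc, add_zero]
    | smul a c _ hc => rw [hf.smul_left, hc, mul_zero]
  refine hv (funext fun j => ?_)
  have hli : LinearIndependent F fun j : Fin (Fintype.card b) => (ε j : Vec) := hbli.comp _ ε.injective
  have := Fintype.linearIndependent_iff.1 hli (fun j => σ (v j)) hz0 j
  exact σ.injective (this.trans (map_zero σ).symm)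

/-- all isotropic vectors are centres, from a full subspace of dimension three (or four) -/
theorem u_centres_all
    {N : Type*} (x : N → Vec) (hx : ∀ i, x i ∈ centres hf M) (hspan : Submodule.span F (Set.range x) = ⊤)
    (hconn : ∀ P : N → Prop, (∀ i j, P i → f (x i) (x j) ≠ 0 → P j) → ∀ i j, P i → P j)
    {W : Submodule F Vec} (hW : IsNondegenerateOn f W)
    (hWC : ∀ u ∈ W, f u u = 0 → u ∈ centres hf M) (hdim : 3 ≤ Module.finrank F W)
    (hgood : 4 ≤ Module.finrank F W ∨ 4 < Fintype.card F) : ∀ u, f u u = 0 → u ∈ centres hf M := by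
  induction hk : Fintype.card ι - Module.finrank F W using Nat.strong_induction_on generalizing W with
  | _ k ih =>
  by_cases htop : W = ⊤
  · exact fun u huu => hWC u (htop ▸ Submodule.mem_top) huu
  obtain ⟨w, hw, r, hr, hrr, hc⟩ := u_step hf hle hW hWC hdim htop x hx hspan hconn
  obtain ⟨h1, h2, h3⟩ := u_extend hf hle hW hWC (by omega)
    (hgood.imp (fun h => by omega) id) hw hr hrr hc
  have h4 := Submodule.finrank_le (W ⊔ Submodule.span F {r})
  rw [Module.finrank_fintype_fun_eq_card] at h4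
  exact ih _ (by omega) h1 h3 (by omega) (hgood.imp (fun h => by omega) id) rfl

/-- a full subspace of dimension three -/
theorem u_three (hodd : Odd (Fintype.card ι))
    {N : Type*} (x : N → Vec) (hx : ∀ i, x i ∈ centres hf M) (hspan : Submodule.span F (Set.range x) = ⊤)
    (hconn : ∀ P : N → Prop, (∀ i j, P i → f (x i) (x j) ≠ 0 → P j) → ∀ i j, P i → P j) :
    ∃ W : Submodule F Vec, IsNondegenerateOn f W ∧ 3 ≤ Module.finrank F W ∧
      ∀ u ∈ W, f u u = 0 → u ∈ centres hf M := by
  obtain ⟨a, b, c, ha, hb, hc, hab, htr⟩ := u_triangle hf hle hodd x hx hspan hconn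
  obtain ⟨hW, hW2⟩ := u_plane_nondeg hf ha hb hab
  obtain ⟨w, hw, hr⟩ := exists_decomp hf hW c
  have hWC : ∀ u ∈ Submodule.span F ({a, b} : Set Vec), f u u = 0 → u ∈ centres hf M :=
    fun u hu huu => u_plane_full hf hle ha hb hab hu huu
  have hrr : f (c - w) (c - w) ≠ 0 := by
    obtain ⟨s, t, hst⟩ := Submodule.mem_span_pair.1 hw
    have hca : f c a = t * f b a := by
      have := hr a (Submodule.subset_span (Set.mem_insert _ _))
      rw [herm_sub_left hf, ← hst, hf.add_left, hf.smul_left, hf.smul_left, ha.1] at this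
      linear_combination this
    have hcb : f c b = s * f a b := by
      have := hr b (Submodule.subset_span (Set.mem_insert_of_mem _ rfl))
      rw [herm_sub_left hf, ← hst, hf.add_left, hf.smul_left, hf.smul_left, hb.1] at this
      linear_combination this
    intro h0
    have hww : f w w = 0 := by
      have h1 := hc.1
      rw [show c = w + (c - w) by abel, hf.add_left, herm_add_right hf, herm_add_right hf,
        herm_swap_zero hf (hr w hw), hr w hw, h0] at h1
      linear_combination h1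
    rw [← hst, hf.add_left, herm_add_right hf, herm_add_right hf, hf.smul_left, hf.smul_left, hf.smul_left,
      hf.smul_left, herm_smul_right hf, herm_smul_right hf, herm_smul_right hf, herm_smul_right hf,
      ha.1, hb.1] at hww
    refine htr ?_
    rw [show f b c = σ s * f b a by rw [hf.herm b c, hcb, map_mul, ← hf.herm b a], hca, map_mul, map_mul, map_mul,
      map_mul, hf.involutive, ← hf.herm b a, ← hf.herm a b]
    linear_combination (f a b * f b a) * hww
  obtain ⟨h1, h2, h3⟩ := u_extend hf hle hW hWC (le_of_eq hW2.symm) (Or.inl (by omega)) hw hr hrr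
    (by rw [add_sub_cancel]; exact hc)
  exact ⟨_, h1, by omega, h3⟩

end CfsgLib.RegUnip.SUOdd
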