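import Cfsg.Agent.Lib.RegUnip.SUOdd.Model
import Cfsg.Agent.Lib.RegUnip.SUOdd.Spread
import Cfsg.Agent.Lib.Classical.PSUSimple
import Cfsg.Agent.Lib.RegUnip.SpOrbit

/-!
The orbit of the cyclic vector of the model, the transvections at its points, and criteria for a subgroup
of `SU_{2m+1}` to be everything.
-/

set_option autoImplicit false

namespace CfsgLib.RegUnip.SUOdd

open Matrix CfsgLib.SU CfsgLib.Perm.Trans CfsgLib.Perm.Trans.Unit CfsgLib.Perm.Asch

variable {F : Type*} [Field F] {q : ℕ}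

/-- the matrix of an element of `SU` as an invertible matrix -/
noncomputable def suGL (n : ℕ) (F : Type*) [Field F] (q : ℕ) : ↥(Cfsg.SU n F q) →* GL (Fin n) F :=
  Matrix.SpecialLinearGroup.toGL.comp (Cfsg.SU n F q).subtype

theorem suGL_val {n : ℕ} (A : ↥(Cfsg.SU n F q)) :
    (suGL n F q A : Matrix (Fin n) (Fin n) F) = A.1.1 := rfl

theorem suGL_injective {n : ℕ} : Function.Injective (suGL n F q) := fun A B h =>
  su_ext fun x => by rw [← suGL_val A, h, suGL_val]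

variable [Fintype F] {C : UCtx F q}

theorem suGL_map_le {n : ℕ} (C : UCtx F q) (G : Subgroup ↥(Cfsg.SU n F q)) :
    G.map (suGL n F q) ≤ isoU (Cfsg.hermForm n F q) := by
  rintro _ ⟨A, -, rfl⟩
  exact mem_isoU.2 fun x y => by rw [hermForm_eq_form C, hermForm_eq_form C, suGL_val, C.form_su]

/-- a vector whose transvections all lie in the subgroup is a centre -/
theorem mem_centres_of_tv {n : ℕ} {G : Subgroup ↥(Cfsg.SU n F q)} {v : Fin n → F} (hvv : C.form v v = 0)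
    (h : ∀ s hs, C.tv v hvv s hs ∈ G) :
    v ∈ centres (isUnitary_hermForm C) (G.map (suGL n F q)) := by
  refine ⟨by rw [hermForm_eq_form C, hvv], fun c hc => ⟨utv_orth _ (by rw [hermForm_eq_form C, hvv]) c,
    _, h c (by rw [hc, add_neg_cancel]), ?_⟩⟩
  refine gl_ext_vec fun x => ?_
  rw [suGL_val, C.tv_mulVec, tv_mulVec, smul_dotProduct, hv_dot, hermForm_eq_form C, smul_eq_mul]

/-- a subgroup with all isotropic vectors as centres is everything -/
theorem top_of_centres {n : ℕ} (hn : 4 ≤ n) {G : Subgroup ↥(Cfsg.SU n F q)}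
    (h : ∀ v, Cfsg.hermForm n F q v v = 0 → v ∈ centres (isUnitary_hermForm C) (G.map (suGL n F q))) :
    G = ⊤ := by
  classical
  refine eq_top_iff.2 fun A _ => ?_
  obtain ⟨B, hB, hBA⟩ := isoU_inf_SL_le (isUnitary_hermForm C) (M := G.map (suGL n F q))
    (fun u _ huu c hc => (h u huu).2 c hc) (Or.inl (by rwa [Fintype.card_fin]))
    (x := suGL n F q A) ⟨fun x y => A.2 x y, Units.ext A.1.2⟩
  exact suGL_injective hBA ▸ hB

/-- a normal subgroup with a non-central element is everything -/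
theorem top_of_normal (hF : Fintype.card F = q ^ 2) {n : ℕ} (hn : 5 ≤ n) (N : Subgroup ↥(Cfsg.SU n F q))
    [N.Normal] {w : ↥(Cfsg.SU n F q)} (hw : w ∈ N) (hwc : w ∉ Subgroup.center ↥(Cfsg.SU n F q)) :
    N = ⊤ := by
  classical
  have h32 : ¬ (n = 3 ∧ q = 2) := by rintro ⟨rfl, -⟩; omega
  obtain ⟨C⟩ := ctx_of_card hF
  haveI := CfsgLib.Classical.psu_isSimple (F := F) (q := q) hF (n := n) (by omega) h32
  rcases (Subgroup.Normal.map inferInstance (pr (n := n) (F := F) (q := q))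
    (QuotientGroup.mk'_surjective _) : (N.map pr).Normal).eq_bot_or_eq_top with h | h
  · exact absurd ((QuotientGroup.eq_one_iff w).1
      ((Subgroup.eq_bot_iff_forall _).1 h _ (Subgroup.mem_map_of_mem pr hw))) hwc
  have hperf : commutator ↥(Cfsg.SU n F q) = ⊤ := by
    rw [eq_top_iff, ← su_closure hF n (by omega) h32, Subgroup.closure_le]
    rintro A ⟨v, c, hv0, hA⟩
    rw [commutator_eq_closure]
    exact Subgroup.subset_closure (CfsgLib.Classical.su_transvection_mem C (by omega) A v c hv0 hA)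
  refine eq_top_iff.2 ?_
  rw [← hperf, commutator_def, Subgroup.commutator_le]
  intro x _ y _
  obtain ⟨x', hx', ex⟩ : pr x ∈ N.map pr := h ▸ Subgroup.mem_top _
  have hz : x'⁻¹ * x ∈ Subgroup.center ↥(Cfsg.SU n F q) := QuotientGroup.eq.1 ex
  obtain ⟨z, hzc, rfl⟩ : ∃ z ∈ Subgroup.center ↥(Cfsg.SU n F q), x = x' * z :=
    ⟨_, hz, (mul_inv_cancel_left x' x).symm⟩
  rw [commutatorElement_def]
  have he : x' * z * y * (x' * z)⁻¹ * y⁻¹ = x' * (y * x'⁻¹ * y⁻¹) := by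
    calc x' * z * y * (x' * z)⁻¹ * y⁻¹ = x' * (z * y) * z⁻¹ * x'⁻¹ * y⁻¹ := by group
      _ = x' * (y * z) * z⁻¹ * x'⁻¹ * y⁻¹ := by rw [Subgroup.mem_center_iff.1 hzc y]
      _ = x' * (y * x'⁻¹ * y⁻¹) := by group
  rw [he]
  exact N.mul_mem hx' (Subgroup.Normal.conj_mem inferInstance _ (N.inv_mem hx') y)

variable {m : ℕ} {a : F} (D : OddData C m a)

/-- the orbit of the cyclic vector -/
def OddData.xk (k : ℤ) : Fin (2 * m + 1) → F := (D.u ^ k).1.1 *ᵥ D.x

/-- the form along the orbit -/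
def OddData.cor (k : ℤ) : F := C.form D.x (D.xk k)

omit [Fintype F] in
theorem OddData.xk_zero : D.xk 0 = D.x := by
  rw [OddData.xk, _root_.zpow_zero, su_one_mulVec]

omit [Fintype F] in
theorem OddData.xk_shift (j k : ℤ) : (D.u ^ j).1.1 *ᵥ D.xk k = D.xk (j + k) := by
  rw [OddData.xk, OddData.xk, ← suMat_mulVec_mul, ← _root_.zpow_add]

omit [Fintype F] in
theorem OddData.form_xk (i j : ℤ) : C.form (D.xk i) (D.xk j) = D.cor (j - i) := by
  rw [show D.xk i = (D.u ^ i).1.1 *ᵥ D.x from rfl, show j = i + (j - i) by ring, ← D.xk_shift, C.form_su,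
    OddData.cor, show i + (j - i) - i = j - i by ring]

omit [Fintype F] in
theorem OddData.cor_neg (k : ℤ) : D.cor (-k) = C.bar (D.cor k) := by
  rw [← zero_sub k, ← D.form_xk, ← C.bar_form, D.form_xk, sub_zero]

omit [Fintype F] in
theorem OddData.cor_small {k : ℤ} (h : k.natAbs < m) : D.cor k = 0 := by
  have h1 : D.cor (k.natAbs : ℤ) = 0 := by
    rw [OddData.cor, OddData.xk, _root_.zpow_natCast]; exact D.small _ h
  rcases k.natAbs_eq with e | e
  · rw [e]; exact h1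
  · rw [e, D.cor_neg, h1, map_zero]

omit [Fintype F] in
theorem OddData.cor_m : D.cor (m : ℤ) = a := by
  rw [OddData.cor, OddData.xk, _root_.zpow_natCast]; exact D.at_m

omit [Fintype F] in
theorem OddData.cor_succ : D.cor ((m : ℤ) + 1) = (2 * (m : F) + 1) * a + C.bar a := by
  rw [OddData.cor, OddData.xk, show (m : ℤ) + 1 = ((m + 1 : ℕ) : ℤ) by push_cast; ring,
    _root_.zpow_natCast]
  exact D.at_succ

variable (hm : 2 ≤ m)
include hm

omit [Fintype F] in
theorem OddData.form_self (k : ℤ) : C.form (D.xk k) (D.xk k) = 0 := by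
  rw [D.form_xk, sub_self]
  exact D.cor_small (by simp; omega)

/-- the transvection at the `k`-th orbit vector -/
def OddData.T (k : ℤ) (s : F) (hs : s + C.bar s = 0) : ↥(Cfsg.SU (2 * m + 1) F q) :=
  C.tv (D.xk k) (D.form_self hm k) s hs

omit [Fintype F] in
theorem OddData.T_mulVec (k : ℤ) (s : F) (hs : s + C.bar s = 0) (y : Fin (2 * m + 1) → F) :
    (D.T hm k s hs).1.1 *ᵥ y = y + (s * C.form y (D.xk k)) • D.xk k := C.tv_mulVec _ _ _ _ _

omit [Fintype F] in
theorem OddData.T_congr {k l : ℤ} {s t : F} {hs : s + C.bar s = 0} {ht : t + C.bar t = 0} (h : k = l)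
    (h' : s = t) : D.T hm k s hs = D.T hm l t ht := by
  subst h h'; rfl

omit [Fintype F] in
theorem OddData.T_shift (j k : ℤ) (s : F) (hs : s + C.bar s = 0) :
    D.u ^ j * D.T hm k s hs * (D.u ^ j)⁻¹ = D.T hm (j + k) s hs := by
  refine su_ext fun y => ?_
  rw [OddData.T, C.tv_conj, C.tv_mulVec, D.T_mulVec, D.xk_shift]

omit [Fintype F] in
theorem OddData.T_inv (k : ℤ) (s : F) (hs : s + C.bar s = 0) :
    (D.T hm k s hs)⁻¹ = D.T hm k (-s) (by rw [map_neg]; linear_combination -hs) := by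
  refine inv_eq_of_mul_eq_one_right (su_ext fun y => ?_)
  simp only [suMat_mulVec_mul, D.T_mulVec, su_one_mulVec, C.form_add_left, C.form_smul_left, D.form_self hm]
  module

omit [Fintype F] in
theorem OddData.T_zero (k : ℤ) (hs : (0 : F) + C.bar 0 = 0) : D.T hm k 0 hs = 1 :=
  su_ext fun y => by simp [D.T_mulVec, su_one_mulVec]

omit [Fintype F] in
theorem OddData.T_commute {i j : ℤ} (h : (j - i).natAbs < m) (s t : F) (hs : s + C.bar s = 0)
    (ht : t + C.bar t = 0) : Commute (D.T hm i s hs) (D.T hm j t ht) :=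
  C.tv_commute _ _ (by rw [D.form_xk]; exact D.cor_small h) s t hs ht

omit [Fintype F] in
/-- the product of neighbouring transvections contained in the group -/
theorem OddData.T_pair_mem {G : Subgroup ↥(Cfsg.SU (2 * m + 1) F q)} (hu : D.u ∈ G) {s : F}
    {hs : s + C.bar s = 0} (h : D.T hm 0 s hs * D.u * (D.T hm 0 s hs)⁻¹ ∈ G) (j : ℤ) :
    D.T hm j s hs * D.T hm (j + 1) (-s) (by rw [map_neg]; linear_combination -hs) ∈ G := by
  have h1 := G.mul_mem (G.mul_mem (G.zpow_mem hu j) (G.mul_mem h (G.inv_mem hu))) (G.inv_mem (G.zpow_mem hu j))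
  have he : D.u ^ j * (D.T hm 0 s hs * D.u * (D.T hm 0 s hs)⁻¹ * D.u⁻¹) * (D.u ^ j)⁻¹ =
      (D.u ^ j * D.T hm 0 s hs * (D.u ^ j)⁻¹) *
        (D.u ^ (j + 1) * (D.T hm 0 s hs)⁻¹ * (D.u ^ (j + 1))⁻¹) := by
    group
  rw [he, D.T_inv, D.T_shift, D.T_shift] at h1
  convert h1 using 2
  · exact D.T_congr hm (add_zero j).symm rfl
  · exact D.T_congr hm (add_zero (j + 1)).symm rfl

omit [Fintype F] in
theorem OddData.u_not_central (ha : a ≠ 0) {δ : F} (hδ0 : δ ≠ 0) (hδ : δ + C.bar δ = 0) :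
    D.u ∉ Subgroup.center ↥(Cfsg.SU (2 * m + 1) F q) := by
  intro hc
  have hcomm := Subgroup.mem_center_iff.1 (Subgroup.zpow_mem _ hc (m : ℤ)) (D.T hm 0 δ hδ)
  have he : D.T hm ((m : ℤ) + 0) δ hδ = D.T hm 0 δ hδ := by
    rw [← D.T_shift, ← hcomm, mul_inv_cancel_right]
  have h1 := congrArg (fun A : ↥(Cfsg.SU (2 * m + 1) F q) => A.1.1 *ᵥ D.xk (m : ℤ)) he
  simp only [D.T_mulVec, add_zero, D.form_self hm, mul_zero, zero_smul] at h1
  have h2 := left_eq_add.1 h1
  rw [D.form_xk, zero_sub, D.cor_neg, D.cor_m, smul_eq_zero] at h2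
  rcases h2 with h2 | h2
  · exact mul_ne_zero hδ0 (by simpa using ha) h2
  · have h3 := D.cor_m
    rw [← sub_zero (m : ℤ), ← D.form_xk, h2, C.form_zero_left] at h3
    exact ha h3.symm

theorem OddData.centres_xk {G : Subgroup ↥(Cfsg.SU (2 * m + 1) F q)} (hu : D.u ∈ G)
    (h : ∀ s hs, D.T hm 0 s hs ∈ G) (k : ℤ) :
    D.xk k ∈ centres (isUnitary_hermForm C) (G.map (suGL (2 * m + 1) F q)) :=
  mem_centres_of_tv (D.form_self hm k) fun s hs => by
    show D.T hm k s hs ∈ G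
    rw [D.T_congr hm (add_zero k).symm rfl (ht := hs), ← D.T_shift]
    exact G.mul_mem (G.mul_mem (G.zpow_mem hu k) (h s hs)) (G.inv_mem (G.zpow_mem hu k))

omit hm in
omit [Fintype F] in
theorem OddData.span_xk :
    Submodule.span F (Set.range fun i : Fin (2 * m + 1) => D.xk ((i : ℕ) : ℤ)) = ⊤ := by
  simp only [OddData.xk, _root_.zpow_natCast]
  exact D.span

omit hm in
theorem OddData.conn (ha : a ≠ 0) (hs : (2 * (m : F) + 1) * a + C.bar a ≠ 0)
    (P : Fin (2 * m + 1) → Prop)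
    (hP : ∀ i j : Fin (2 * m + 1), P i →
      Cfsg.hermForm (2 * m + 1) F q (D.xk ((i : ℕ) : ℤ)) (D.xk ((j : ℕ) : ℤ)) ≠ 0 → P j) :
    ∀ i j, P i → P j := by
  intro i j hi
  have both : ∀ e : ℕ, D.cor (e : ℤ) ≠ 0 → ∀ b : ℕ,
      D.cor (((b + e : ℕ) : ℤ) - (b : ℤ)) ≠ 0 ∧ D.cor ((b : ℤ) - ((b + e : ℕ) : ℤ)) ≠ 0 := by
    intro e he b
    constructor
    · rwa [show ((b + e : ℕ) : ℤ) - (b : ℤ) = (e : ℤ) by push_cast; ring]
    · rw [show (b : ℤ) - ((b + e : ℕ) : ℤ) = -(e : ℤ) by push_cast; ring, D.cor_neg]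
      simpa using he
  obtain ⟨h, hP'⟩ := conn_gaps (d := m) (N := 2 * m + 1) le_rfl
    (fun b c => D.cor ((c : ℤ) - (b : ℤ)) ≠ 0)
    (fun b _ => both m (by rwa [D.cor_m]) b)
    (fun b _ => both (m + 1) (by rwa [Nat.cast_succ, D.cor_succ]) b)
    (fun b => ∃ h : b < 2 * m + 1, P ⟨b, h⟩)
    (fun b c _ hc ⟨h, hPb⟩ hA => ⟨hc, hP ⟨b, h⟩ ⟨c, hc⟩ hPb (by
      rwa [hermForm_eq_form C, D.form_xk])⟩) i j i.2 j.2 ⟨i.2, hi⟩
  exact hP'

/-- one full orbit vector gives everything -/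
theorem OddData.top_of_full (hF : Fintype.card F = q ^ 2) (hq : 3 ≤ q) (ha : a ≠ 0)
    (hs : (2 * (m : F) + 1) * a + C.bar a ≠ 0) {G : Subgroup ↥(Cfsg.SU (2 * m + 1) F q)} (hu : D.u ∈ G)
    (h : ∀ s hs, D.T hm 0 s hs ∈ G) : G = ⊤ := by
  classical
  set hf := isUnitary_hermForm C (n := 2 * m + 1)
  have hle := suGL_map_le C G
  have hx : ∀ i : Fin (2 * m + 1), D.xk ((i : ℕ) : ℤ) ∈ centres hf (G.map (suGL (2 * m + 1) F q)) :=
    fun i => D.centres_xk hm hu h _
  obtain ⟨W, hW, hW3, hWC⟩ := u_three hf hle (by rw [Fintype.card_fin]; exact ⟨m, rfl⟩) _ hx D.span_xk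
    (D.conn ha hs)
  refine top_of_centres (by omega) fun v hv => u_centres_all hf hle _ hx D.span_xk (D.conn ha hs) hW hWC hW3
    (Or.inr ?_) v hv
  rw [hF]
  nlinarith

end CfsgLib.RegUnip.SUOdd
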